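import Cfsg.Agent.Lib.Struct77.NilpLCS.Linked
import Cfsg.Agent.Lib.CNCount.Main

/-!
No simple group carries distinguished elements lying in the cores of all proper subgroups.
-/

set_option autoImplicit false

namespace CfsgLib.NilpLCS

open Subgroup
open scoped Pointwise

universe u

variable {G : Type u} [Group G] [Finite G] {k : ℕ}

open scoped Classical in
/-- Conjugates of a set with trivial intersection property. -/
theorem ncard_conj_mul (A : Set G) (N : Subgroup G)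
    (hinv : ∀ n ∈ N, ∀ x ∈ A, n * x * n⁻¹ ∈ A)
    (hti : ∀ x ∈ A, ∀ g : G, g * x * g⁻¹ ∈ A → g ∈ N) :
    {y | ∃ g : G, g * y * g⁻¹ ∈ A}.ncard * Nat.card N = Nat.card G * A.ncard := by
  suffices h : Nat.card (G ⧸ N) * A.ncard = {y | ∃ g : G, g * y * g⁻¹ ∈ A}.ncard by
    rw [← h, mul_right_comm, ← Subgroup.card_eq_card_quotient_mul_card_subgroup]
  rw [← Nat.card_coe_set_eq, ← Nat.card_coe_set_eq, ← Nat.card_prod]
  refine Nat.card_eq_of_bijective (fun p : (G ⧸ N) × A =>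
    (⟨p.1.out * p.2.1 * p.1.out⁻¹, p.1.out⁻¹, by simpa [mul_assoc] using p.2.2⟩ :
      {y | ∃ g : G, g * y * g⁻¹ ∈ A})) ⟨?_, ?_⟩
  · rintro ⟨a, u, hu⟩ ⟨b, v, hv⟩ h
    have h' : a.out * u * a.out⁻¹ = b.out * v * b.out⁻¹ := congrArg Subtype.val h
    have e : b.out⁻¹ * a.out * u * (b.out⁻¹ * a.out)⁻¹ = v := by
      rw [show b.out⁻¹ * a.out * u * (b.out⁻¹ * a.out)⁻¹ = b.out⁻¹ * (a.out * u * a.out⁻¹) * b.out by
        group, h']
      group
    have hab : b = a := by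
      rw [← Quotient.out_eq a, ← Quotient.out_eq b]
      exact QuotientGroup.eq.2 (hti u hu _ (by rw [e]; exact hv))
    subst hab
    have : u = v := by simpa using e
    subst this
    rfl
  · rintro ⟨x, g, hg⟩
    obtain ⟨n, hn⟩ := QuotientGroup.mk_out_eq_mul N g⁻¹
    have hout : ((g⁻¹ : G) : G ⧸ N).out⁻¹ * x * ((g⁻¹ : G) : G ⧸ N).out =
        (n : G)⁻¹ * (g * x * g⁻¹) * n := by rw [hn]; group
    refine ⟨⟨((g⁻¹ : G) : G ⧸ N), ⟨(n : G)⁻¹ * (g * x * g⁻¹) * n, ?_⟩⟩, Subtype.ext ?_⟩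
    · simpa using hinv _ (inv_mem n.2) _ hg
    · show ((g⁻¹ : G) : G ⧸ N).out * ((n : G)⁻¹ * (g * x * g⁻¹) * n) *
        (((g⁻¹ : G) : G ⧸ N).out)⁻¹ = x
      rw [← hout]; group

variable (D : SData G k)
include D

/-- Conjugate Fitting elements give conjugate blocks. -/
theorem SData.blk_conj_eq {H H' : Subgroup G} (hH : Blk H) (hH' : Blk H') {f g : G}
    (hf : f ∈ fit H) (hf1 : f ≠ 1) (hg : g * f * g⁻¹ ∈ fit H') :
    H' = H.map (MulAut.conj g).toMonoidHom :=
  D.blk_eq_of_mem hH' (hH.map g) hg (mem_fit_map H (MulAut.conj g) hf)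
    fun e => hf1 (conj_eq_one_iff.1 e)

open scoped Classical in
/-- The self-centralising case. -/
theorem SData.false_of_centralizer_le
    (hcl : ∀ H, Blk H → ∀ c ∈ fit H, c ≠ 1 → centralizer ({c} : Set G) ≤ fit H) : False := by
  have := D.simple
  have : Nontrivial G := inferInstance
  let _ : Fintype G := Fintype.ofFinite G
  let st : Setoid {H : Subgroup G // Blk H} :=
    { r := fun a b => ∃ g : G, b.1 = a.1.map (MulAut.conj g).toMonoidHom
      iseqv := by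
        refine ⟨fun a => ⟨1, ?_⟩, fun {a b} h => ?_, fun {a b c} h h' => ?_⟩
        · ext y; simp
        · obtain ⟨g, hg⟩ := h
          refine ⟨g⁻¹, ?_⟩
          rw [hg, Subgroup.map_map]
          ext y; simp [mul_assoc]
        · obtain ⟨g, hg⟩ := h
          obtain ⟨g', hg'⟩ := h'
          refine ⟨g' * g, ?_⟩
          rw [hg', hg, Subgroup.map_map]
          congr 1
          ext y; simp [mul_assoc] }
  let _ : Fintype (Quotient st) := Fintype.ofFinite _
  refine CNCount.covering_false D.odd (fun i : Quotient st => fit i.out.1) (fun i => ?_) ?_ ?_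
  · have hH := i.out.2
    have hN := fit_le_normalizer (G := G) i.out.1
    refine ⟨fun g hg c hc hgc => ?_, hcl _ hH, ?_, fit_nilpotent _, D.blk_fit_ne_bot hH⟩
    · by_contra hc1
      exact hg (hN (D.blk_ti hH hc hc1 hgc))
    · refine lt_of_le_of_ne le_normalizer fun h => D.blk_fit_ne hH (le_antisymm (fit_le _) ?_)
      exact hN.trans h.ge
  · intro i j hij c hc hc1 g hg
    refine hij (Quotient.out_equiv_out.1 ⟨g, D.blk_conj_eq i.out.2 j.out.2 hc hc1 hg⟩)
  · intro x hx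
    obtain ⟨q, u, hq, hu, huo, -⟩ := exists_prime_pow hx
    have := Fact.mk hq
    have hu1 : u ≠ 1 := fun e => hq.ne_one (by rw [← huo, e, orderOf_one])
    obtain ⟨Q, huQ⟩ := exists_sylow_mem (q := q) (u := u) ⟨1, by rw [huo, pow_one]⟩
    let H0 : {H : Subgroup G // Blk H} := ⟨_, D.blk_of_mem Q huQ hu1⟩
    have hxF : x ∈ fit H0.1 := hcl _ H0.2 u (mem_fit_of_normal_pgroup Q.2 le_normalizer le_rfl huQ) hu1
      (mem_centralizer_singleton_iff.2 (by
        obtain ⟨i, rfl⟩ := mem_zpowers_iff.1 hu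
        exact ((Commute.refl x).zpow_right i).eq))
    obtain ⟨g, hg⟩ : st.r H0 (⟦H0⟧ : Quotient st).out := st.iseqv.symm (Quotient.mk_out H0)
    exact ⟨⟦H0⟧, g, by rw [hg]; exact mem_fit_map _ (MulAut.conj g) hxF⟩

open scoped Classical in
/-- The linked case. -/
theorem SData.false_of_lnk {W H₀ E₀ : Subgroup G} (L₀ : Lnk W H₀ E₀) : False := by
  let _ : Fintype G := Fintype.ofFinite G
  let J := {H : Subgroup G // ∃ E, Lnk W H E}
  let _ : Fintype J := Fintype.ofFinite J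
  have hL : ∀ j : J, ∃ E, Lnk W j.1 E := fun j => j.2
  have hblk : ∀ j : J, Blk j.1 := fun j => (hL j).choose_spec.blk
  have hWle : ∀ j : J, W ≤ j.1 := fun j => (hL j).choose_spec.le
  -- every prime is carried by a member
  have hprime : ∀ w ∈ W, ∀ q : ℕ, q.Prime → orderOf w = q → ∃ j : J, w ∈ fit j.1 := by
    intro w hw q hq hwo
    have := Fact.mk hq
    by_cases hd : q ∣ Nat.card (fit H₀)
    · exact ⟨⟨H₀, E₀, L₀⟩, D.blk_mem_fit L₀.blk hd (L₀.le hw) ⟨1, by rw [hwo, pow_one]⟩⟩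
    · have hwE := L₀.mem_E hw (by rw [hwo]; exact hq.coprime_iff_not_dvd.2 hd)
      obtain ⟨H', E', L', hd'⟩ := L₀.exists_next D hq (hwo ▸ orderOf_dvd_natCard _ hwE)
      exact ⟨⟨H', E', L'⟩, D.blk_mem_fit L'.blk hd' (L'.le hw) ⟨1, by rw [hwo, pow_one]⟩⟩
  -- two members
  have hm : 2 ≤ Fintype.card J := by
    obtain ⟨q, hq, hqE⟩ := Nat.exists_prime_and_dvd
      (fun h => L₀.E_ne (Subgroup.eq_bot_of_card_eq _ h) : Nat.card E₀ ≠ 1)
    obtain ⟨H', E', L', hd'⟩ := L₀.exists_next D hq hqE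
    have hne : H₀ ≠ H' := fun e => hq.ne_one
      (Nat.eq_one_of_dvd_coprimes L₀.compl.coprime (e ▸ hd') hqE)
    exact Fintype.one_lt_card_iff.2 ⟨⟨H₀, E₀, L₀⟩, ⟨H', E', L'⟩, fun e => hne (congrArg Subtype.val e)⟩
  -- distinct members are not conjugate
  have hnc : ∀ i j : J, ∀ f g : G, f ∈ fit i.1 → f ≠ 1 → g * f * g⁻¹ ∈ fit j.1 → i = j := by
    intro i j f g hf hf1 hg
    have hcard : Nat.card (fit j.1) = Nat.card (fit i.1) := by
      rw [D.blk_conj_eq (hblk i) (hblk j) hf hf1 hg, fit_map]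
      exact Subgroup.card_map_of_injective (MulAut.conj g).injective
    obtain ⟨⟨a, ha⟩, ha1⟩ := ne_bot_iff_exists_ne_one.1 (hL i).choose_spec.R_ne
    obtain ⟨q, u, hq, hu, huo, -⟩ := exists_prime_pow (x := a) fun e => ha1 (Subtype.ext e)
    have := Fact.mk hq
    have huR := zpowers_le.2 ha hu
    have hd : q ∣ Nat.card (fit j.1) := hcard ▸ huo ▸ orderOf_dvd_natCard _ huR.2
    exact Subtype.ext (D.blk_eq_of_mem (hblk i) (hblk j) huR.2
      (D.blk_mem_fit (hblk j) hd (hWle j huR.1) ⟨1, by rw [huo, pow_one]⟩)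
      fun e => hq.ne_one (by rw [← huo, e, orderOf_one]))
  -- the mixed elements
  let A : Set G := {x | x ∈ W ∧ ∀ j : J, x ∉ fit j.1}
  let M : Set G := {y | ∃ g : G, g * y * g⁻¹ ∈ A}
  let U : J → Set G := fun j => {y | ∃ g : G, g * y * g⁻¹ ∈ (fit j.1 : Set G) \ {1}}
  have hsplit : ∀ x ∈ A, ∃ (i j : J) (u v : G), i ≠ j ∧ u ∈ zpowers x ∧ v ∈ zpowers x ∧
      u ≠ 1 ∧ v ≠ 1 ∧ (orderOf u).Prime ∧ (orderOf v).Prime ∧ u ∈ fit i.1 ∧ v ∈ fit j.1 := by
    intro x hx
    have hx1 : x ≠ 1 := fun e => hx.2 ⟨H₀, E₀, L₀⟩ (e ▸ one_mem _)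
    obtain ⟨q, u, hq, hu, huo, -⟩ := exists_prime_pow hx1
    obtain ⟨i, hui⟩ := hprime u (zpowers_le.2 hx.1 hu) q hq huo
    obtain ⟨t, ht, ⟨p, a, hp, hto⟩, htF⟩ := exists_part_notMem D i.1 (hx.2 i)
    obtain ⟨r, v, hr, hv, hvo, hrd⟩ := exists_prime_pow (x := t) fun e => htF (e ▸ one_mem _)
    rw [hto] at hrd
    obtain rfl : r = p := (Nat.prime_dvd_prime_iff_eq hr hp).1 (hr.dvd_of_dvd_pow hrd)
    have := Fact.mk hr
    have htW : t ∈ W := zpowers_le.2 hx.1 ht
    obtain ⟨j, hvj⟩ := hprime v (zpowers_le.2 htW hv) r hr hvo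
    refine ⟨i, j, u, v, ?_, hu, zpowers_le.2 ht hv, fun e => hq.ne_one (by rw [← huo, e, orderOf_one]),
      fun e => hr.ne_one (by rw [← hvo, e, orderOf_one]), huo ▸ hq, hvo ▸ hr, hui, hvj⟩
    rintro rfl
    exact htF (D.blk_mem_fit (hblk i) (hvo ▸ orderOf_dvd_natCard _ hvj) (hWle i htW) ⟨a, hto⟩)
  have hconjz : ∀ {x u g : G} {K : Subgroup G}, g * x * g⁻¹ ∈ K → u ∈ zpowers x → g * u * g⁻¹ ∈ K := by
    intro x u g K h hu
    obtain ⟨i, rfl⟩ := mem_zpowers_iff.1 hu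
    rw [← conj_zpow]
    exact zpow_mem h i
  have hM : M.ncard * Nat.card W = Nat.card G * A.ncard := by
    refine ncard_conj_mul A W (fun n hn x hx => ⟨mul_mem (mul_mem hn hx.1) (inv_mem hn), fun j hj =>
      hx.2 j ?_⟩) fun x hx g hg => ?_
    · simpa [mul_assoc] using fit_conj j.1 (inv_mem (hWle j hn)) hj
    · obtain ⟨i, j, u, v, hij, hu, hv, hu1, hv1, hup, hvp, hui, hvj⟩ := hsplit x hx
      have key : ∀ (i : J) (u : G), u ∈ zpowers x → u ≠ 1 → (orderOf u).Prime → u ∈ fit i.1 → g ∈ i.1 := by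
        intro i u hu hu1 hup hui
        obtain ⟨l, hl⟩ := hprime _ (hconjz hg.1 hu) _ hup (MulEquiv.orderOf_eq (MulAut.conj g) u)
        obtain rfl := hnc i l u g hui hu1 hl
        exact D.blk_ti (hblk i) hui hu1 hl
      exact (hL i).choose_spec.pair_inf_le D (hL j).choose_spec (fun e => hij (Subtype.ext e))
        ⟨key i u hu hu1 hup hui, key j v hv hv1 hvp hvj⟩
  have hU : ∀ j : J, (U j).ncard * Nat.card j.1 = Nat.card G * (Nat.card (fit j.1) - 1) := by
    intro j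
    rw [show Nat.card (fit j.1) - 1 = ((fit j.1 : Set G) \ {1}).ncard from
      (Set.ncard_sdiff_singleton_of_mem (one_mem (fit j.1))).symm]
    refine ncard_conj_mul _ j.1 (fun n hn x hx => ⟨fit_conj _ hn hx.1, fun h => hx.2 ?_⟩)
      fun x hx g hg => D.blk_ti (hblk j) hx.1 hx.2 hg.1
    exact conj_eq_one_iff.1 h
  -- disjointness
  have hdisU : ∀ i j : J, i ≠ j → Disjoint (U i) (U j) := by
    intro i j hij
    refine Set.disjoint_left.2 fun y ⟨g, hg⟩ ⟨g', hg'⟩ => hij (hnc i j _ (g' * g⁻¹) hg.1 hg.2 ?_)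
    rw [show g' * g⁻¹ * (g * y * g⁻¹) * (g' * g⁻¹)⁻¹ = g' * y * g'⁻¹ by group]
    exact hg'.1
  have hdisM : ∀ j : J, Disjoint M (U j) := by
    intro j
    refine Set.disjoint_left.2 fun y ⟨g, hg⟩ ⟨g', hg'⟩ => hg.2 j ?_
    obtain ⟨i, l, u, v, -, hu, -, hu1, -, -, -, hui, -⟩ := hsplit _ hg
    have hc : g' * g⁻¹ * (g * y * g⁻¹) * (g' * g⁻¹)⁻¹ ∈ fit j.1 := by
      rw [show g' * g⁻¹ * (g * y * g⁻¹) * (g' * g⁻¹)⁻¹ = g' * y * g'⁻¹ by group]; exact hg'.1
    have huj := hconjz hc hu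
    obtain rfl := hnc i j u _ hui hu1 huj
    have hh := D.blk_ti (hblk i) hui hu1 huj
    have := fit_conj i.1 (inv_mem hh) hc
    simpa [mul_assoc] using this
  have htot : M.ncard + ∑ j, (U j).ncard ≤ Nat.card G := by
    rw [← Nat.card_coe_set_eq M]
    have : (M ∪ ⋃ j, U j).ncard = M.ncard + ∑ j, (U j).ncard := by
      rw [Set.ncard_union_eq (Set.disjoint_iUnion_right.2 hdisM), Set.ncard_iUnion_of_finite
        (fun _ => Set.toFinite _) (fun i j hij => hdisU i j hij), finsum_eq_sum_of_fintype]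
    rw [Nat.card_coe_set_eq, ← this]
    exact Set.ncard_le_card _
  -- the elements of the intersection
  have hW : Nat.card W + Fintype.card J ≤
      A.ncard + 1 + ∑ j : J, Nat.card (W ⊓ fit j.1 : Subgroup G) := by
    have hsub : (W : Set G) ⊆ (A ∪ {1}) ∪ ⋃ j : J, ((W ⊓ fit j.1 : Subgroup G) : Set G) \ {1} := by
      intro x hx
      by_cases h1 : x = 1
      · exact Or.inl (Or.inr h1)
      · by_cases hj : ∃ j : J, x ∈ fit j.1
        · obtain ⟨j, hj⟩ := hj
          exact Or.inr (Set.mem_iUnion.2 ⟨j, ⟨hx, hj⟩, h1⟩)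
        · exact Or.inl (Or.inl ⟨hx, fun j h => hj ⟨j, h⟩⟩)
    have h1 : Nat.card W ≤ A.ncard + 1 + ∑ j : J, (Nat.card (W ⊓ fit j.1 : Subgroup G) - 1) := by
      refine (Set.ncard_le_ncard hsub).trans ((Set.ncard_union_le _ _).trans (add_le_add
        ((Set.ncard_union_le _ _).trans (by rw [Set.ncard_singleton]))
        ((Set.ncard_iUnion_le_of_fintype _).trans (le_of_eq (Finset.sum_congr rfl fun j _ => ?_)))))
      exact Set.ncard_sdiff_singleton_of_mem (one_mem (W ⊓ fit j.1))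
    have h2 : ∑ j : J, (Nat.card (W ⊓ fit j.1 : Subgroup G) - 1) + Fintype.card J =
        ∑ j : J, Nat.card (W ⊓ fit j.1 : Subgroup G) := by
      rw [Fintype.card_eq_sum_ones, ← Finset.sum_add_distrib]
      exact Finset.sum_congr rfl fun j _ => Nat.sub_add_cancel Nat.card_pos
    omega
  have hpure : ∀ j : J, 3 * Nat.card G * Nat.card (W ⊓ fit j.1 : Subgroup G) ≤
      3 * Nat.card W * (U j).ncard + Nat.card G := by
    intro j
    have L := (hL j).choose_spec
    have h1 := L.card_eq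
    have h2 := hU j
    have h3 := L.three_mul_le D
    obtain ⟨f, hf⟩ : ∃ f, Nat.card (fit j.1) = f + 1 :=
      ⟨_, (Nat.sub_add_cancel Nat.card_pos).symm⟩
    rw [hf] at h1 h2 h3
    simp only [Nat.add_sub_cancel] at h2
    refine Nat.le_of_mul_le_mul_right ?_ (Nat.succ_pos f)
    have h4 : 3 * Nat.card W * (U j).ncard * (f + 1) =
        3 * Nat.card (W ⊓ fit j.1 : Subgroup G) * (Nat.card G * f) := by
      rw [← h2]; linear_combination (3 * (U j).ncard) * h1
    nlinarith [Nat.mul_le_mul_left (Nat.card G) h3]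
  have hsum := Finset.sum_le_sum (s := Finset.univ) fun j _ => hpure j
  rw [Finset.sum_add_distrib, ← Finset.mul_sum, ← Finset.mul_sum, Finset.sum_const,
    Finset.card_univ, smul_eq_mul] at hsum
  have hg : 0 < Nat.card G := Nat.card_pos
  nlinarith [Nat.mul_le_mul_left (3 * Nat.card W) htot, Nat.mul_le_mul_left (3 * Nat.card G) hW,
    Nat.mul_le_mul_left (Nat.card G) hm]

theorem SData.false : False := by
  by_cases h : ∀ H, Blk H → ∀ c ∈ fit H, c ≠ 1 → centralizer ({c} : Set G) ≤ fit H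
  · exact D.false_of_centralizer_le h
  · push Not at h
    obtain ⟨H, hH, c, hc, hc1, hnot⟩ := h
    obtain ⟨W, E, L⟩ := D.exists_lnk hH hc hc1 hnot
    exact D.false_of_lnk L

end CfsgLib.NilpLCS
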