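import Cfsg.Agent.Lib.Struct77.NilpLCS.Simple

/-!
The simple group has odd order and strongly trivial-intersection Sylow subgroups.
-/

set_option autoImplicit false

namespace CfsgLib.NilpLCS

open Subgroup
open scoped commutatorElement Pointwise

universe u

variable {G : Type u} [Group G] [Finite G] {k : ℕ} (D : SData G k)

include D

theorem SData.not_solvable : ¬ Group.IsSolvable G := fun h => by
  have := D.simple
  exact D.nc ⟨⟨IsSimpleGroup.comm_iff_isSolvable.2 h⟩⟩

theorem SData.normal_cases (N : Subgroup G) (hN : N.Normal) : N = ⊥ ∨ N = ⊤ := by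
  have := D.simple
  exact IsSimpleGroup.eq_bot_or_eq_top_of_normal N hN

theorem SData.not_pgroup (p : ℕ) [Fact p.Prime] : ¬ IsPGroup p G := fun h =>
  D.not_solvable (@IsNilpotent.to_isSolvable _ _ h.isNilpotent)

theorem SData.normalizer_ne_top {p : ℕ} [Fact p.Prime] {T : Subgroup G} (hT : IsPGroup p T)
    (hT1 : T ≠ ⊥) : normalizer (T : Set G) ≠ ⊤ := by
  intro h
  rcases D.normal_cases T (normalizer_eq_top_iff.1 h) with h1 | h1
  · exact hT1 h1
  · subst h1
    exact D.not_pgroup p (hT.of_equiv topEquiv)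

theorem SData.centralizer_ne_top {x : G} (hx : x ≠ 1) : centralizer ({x} : Set G) ≠ ⊤ := by
  intro h
  have hxc : x ∈ center G := mem_center_iff.2 fun g =>
    mem_centralizer_singleton_iff.1 (h ▸ mem_top g : g ∈ centralizer ({x} : Set G))
  rcases D.normal_cases (center G) inferInstance with h1 | h1
  · exact hx (by rwa [h1, mem_bot] at hxc)
  · exact D.nc ⟨⟨fun a b => mem_center_iff.1 (h1 ▸ mem_top b : b ∈ center G) a⟩⟩

/-- The values of prime power order of a proper subgroup lie in one Sylow subgroup. -/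
theorem SData.exists_sylow_values {p : ℕ} [hp : Fact p.Prime] {H : Subgroup G} (hH : H ≠ ⊤) :
    ∃ R : Sylow p G, ∀ v ∈ D.V, v ∈ H → (∃ a, orderOf v = p ^ a) → v ∈ (R : Subgroup G) := by
  obtain ⟨R, hR⟩ := ((PCore.pCore_isPGroup (p := p) (G := H)).map H.subtype).exists_le_sylow
  exact ⟨R, fun v hv hvH hvo => hR ⟨_, D.core H hH p hp.out v hvH hv hvo, rfl⟩⟩

/-- A `p`-local automorphism that is not inner. -/
theorem SData.exists_local {p : ℕ} [hp : Fact p.Prime] (hpG : p ∣ Nat.card G) :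
    ∃ T : Subgroup G, IsPGroup p T ∧ ∃ a ∈ normalizer (T : Set G), (orderOf a).Coprime p ∧
      ∃ t ∈ T, ¬ Commute t a := by
  by_contra hcon
  push Not at hcon
  have hc := Transfer.hasNormalPComplement_of_frobeniusCond (p := p) (G := G) fun Q hQ g hg hgc =>
    mem_centralizer_iff.2 fun t ht => (hcon Q hQ g hg hgc t ht).eq
  rcases D.normal_cases _ (Transfer.pResidual_normal (p := p) (G := G)) with h | h
  · refine D.not_pgroup p fun g => ?_
    have h1 := Transfer.isPGroup_quotient_of_pResidual_le (p := p) (⊥ : Subgroup G) h.le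
    obtain ⟨i, hi⟩ := h1 (g : G ⧸ (⊥ : Subgroup G))
    rw [← QuotientGroup.mk_pow, QuotientGroup.eq_one_iff, mem_bot] at hi
    exact ⟨i, hi⟩
  · exact Transfer.hasNormalPComplement_iff.1 hc (by rwa [h, card_top])

theorem SData.central_value {p : ℕ} [hp : Fact p.Prime] {T : Subgroup G} (hT : IsPGroup p T) :
    ∀ i : ℕ, ∀ v : T, v ∈ Subgroup.upperCentralSeries T i → (v : G) ∈ D.V → v ≠ 1 →
      ∃ w : T, w ∈ center T ∧ (w : G) ∈ D.V ∧ w ≠ 1 := by
  intro i
  induction i with
  | zero => intro v hv _ h1; exact absurd (by simpa using hv) h1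
  | succ i ih =>
    intro v hv hV h1
    by_cases hc : v ∈ center T
    · exact ⟨v, hc, hV, h1⟩
    · obtain ⟨t, ht⟩ : ∃ t, t * v ≠ v * t := by simpa [mem_center_iff] using hc
      refine ih ⁅v, t⁆ (hv t) ?_ fun h => ht (commutatorElement_eq_one_iff_mul_comm.1 h).symm
      have := D.comm p T hp.out hT v hV v.2 t t.2
      rwa [← Subgroup.coe_subtype, map_commutatorElement]

theorem SData.penultimate_value {p : ℕ} [hp : Fact p.Prime] {T : Subgroup G} (hT : IsPGroup p T) :
    ∀ i : ℕ, ∀ v : T, v ∈ Subgroup.upperCentralSeries T i → (v : G) ∈ D.V → v ∉ center T →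
      ∃ w : T, w ∉ center T ∧ (w : G) ∈ D.V ∧ ∀ t, ⁅w, t⁆ ∈ center T := by
  intro i
  induction i with
  | zero =>
    intro v hv _ h1
    exact absurd (by rw [show v = 1 by simpa using hv]; exact one_mem _) h1
  | succ i ih =>
    intro v hv hV h1
    by_cases hall : ∀ t, ⁅v, t⁆ ∈ center T
    · exact ⟨v, h1, hV, hall⟩
    · push Not at hall
      obtain ⟨t, ht⟩ := hall
      refine ih ⁅v, t⁆ (hv t) ?_ ht
      have := D.comm p T hp.out hT v hV v.2 t t.2
      rwa [← Subgroup.coe_subtype, map_commutatorElement]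

/-- There is a distinguished element of order `p`. -/
theorem SData.exists_order {p : ℕ} [hp : Fact p.Prime] (hpG : p ∣ Nat.card G) :
    ∃ v ∈ D.V, orderOf v = p := by
  classical
  obtain ⟨T, hT, a, ha, hac, t₀, ht₀, hne⟩ := D.exists_local hpG
  by_cases hall : ∀ t ∈ T, ∀ s ∈ T, Commute (itc t a k) s
  · -- inside the centre of `T`
    let C : Subgroup G := centralizer (T : Set G) ⊓ T
    have hCab : ∀ x ∈ C, ∀ y ∈ C, x * y = y * x := fun x hx y hy =>
      mem_centralizer_iff.1 hy.1 x hx.2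
    have hu₀C : itc t₀ a k ∈ C :=
      ⟨mem_centralizer_iff.2 fun s hs => (hall t₀ ht₀ s hs).eq.symm, itc_mem ht₀ ha k⟩
    have haC : a ∈ normalizer (C : Set G) := CfsgLib.NilpotentMaximal.mem_normalizer_of_conj C a fun x hx => by
      refine ⟨mem_centralizer_iff.2 fun s hs => ?_, (mem_normalizer_iff.1 ha x).1 hx.2⟩
      have h1 : a⁻¹ * s * a ∈ T := by simpa using (mem_normalizer_iff.1 (inv_mem ha) s).1 hs
      have h2 := mem_centralizer_iff.1 hx.1 _ h1
      calc s * (a * x * a⁻¹) = a * ((a⁻¹ * s * a) * x) * a⁻¹ := by group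
        _ = a * (x * (a⁻¹ * s * a)) * a⁻¹ := by rw [h2]
        _ = _ := by group
    have hCp : IsPGroup p C := hT.to_le inf_le_right
    set u₀ := itc t₀ a k with hu₀
    have hu₁ : itc u₀ a k ≠ 1 := by
      intro h
      have h1 : Commute u₀ a := commute_of_itc hCp haC hac k u₀ hu₀C h
      exact hne (commute_of_itc hT ha hac (k + 1) t₀ ht₀ (commutatorElement_eq_one_iff_commute.2 h1))
    have hpow : ∀ j : ℕ, ∀ x ∈ C, ∀ n : ℕ, itc (x ^ n) a j = itc x a j ^ n := by
      intro j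
      induction j with
      | zero => intro x _ n; rfl
      | succ j ihj =>
        intro x hx n
        show ⁅itc (x ^ n) a j, a⁆ = ⁅itc x a j, a⁆ ^ n
        rw [ihj x hx n]
        set y := itc x a j with hy
        have hyC : y ∈ C := itc_mem hx haC j
        have hy2 : a * y⁻¹ * a⁻¹ ∈ C := (mem_normalizer_iff.1 haC _).1 (inv_mem hyC)
        have hc : Commute y (a * y⁻¹ * a⁻¹) := hCab _ hyC _ hy2
        have e1 : ⁅y, a⁆ = y * (a * y⁻¹ * a⁻¹) := by rw [commutatorElement_def]; group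
        have e2 : ⁅y ^ n, a⁆ = y ^ n * (a * y⁻¹ * a⁻¹) ^ n := by
          rw [conj_pow, commutatorElement_def, inv_pow]; group
        rw [e1, e2, hc.mul_pow]
    obtain ⟨m, hm⟩ := IsPGroup.iff_orderOf.1 hCp ⟨_, itc_mem hu₀C haC k⟩
    rw [Subgroup.orderOf_mk] at hm
    have hm0 : m ≠ 0 := fun h0 => hu₁ (orderOf_eq_one_iff.1 (by rw [hm, h0, pow_zero]))
    refine ⟨itc (u₀ ^ p ^ (m - 1)) a k, D.iter p C hp.out hCp a haC hac _ (pow_mem hu₀C _) k le_rfl, ?_⟩
    rw [hpow k u₀ hu₀C, orderOf_pow_of_dvd (pow_ne_zero _ hp.out.ne_zero)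
      (by rw [hm]; exact pow_dvd_pow p (by omega)), hm, Nat.pow_div (by omega) hp.out.pos,
      show m - (m - 1) = 1 by omega, pow_one]
  · push Not at hall
    obtain ⟨t, ht, s, hs, hts⟩ := hall
    have := hT.isNilpotent
    obtain ⟨c, hc⟩ := Group.IsNilpotent.nilpotent (G := T)
    obtain ⟨w, hwc, hwV, hw⟩ := D.penultimate_value hT c ⟨itc t a k, itc_mem ht ha k⟩
      (hc ▸ mem_top _) (D.iter p T hp.out hT a ha hac t ht k le_rfl)
      (fun h => hts (congrArg Subtype.val (mem_center_iff.1 h ⟨s, hs⟩)).symm)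
    obtain ⟨r, hr⟩ : ∃ r, r * w ≠ w * r := by simpa [mem_center_iff] using hwc
    have hmul : ∀ n : ℕ, ⁅w, r ^ n⁆ = ⁅w, r⁆ ^ n := by
      intro n
      induction n with
      | zero => simp
      | succ n ihn =>
        have hcn := mem_center_iff.1 (hw r) (r ^ n)
        calc ⁅w, r ^ (n + 1)⁆ = ⁅w, r ^ n⁆ * (r ^ n * ⁅w, r⁆ * (r ^ n)⁻¹) := by
              simp only [commutatorElement_def, pow_succ]; group
          _ = ⁅w, r⁆ ^ n * ⁅w, r⁆ := by rw [hcn, mul_inv_cancel_right, ihn]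
          _ = _ := by rw [pow_succ]
    obtain ⟨m, hm⟩ := IsPGroup.iff_orderOf.1 hT ⁅w, r⁆
    have hm0 : m ≠ 0 := fun h0 => hr ((commutatorElement_eq_one_iff_mul_comm.1
      (orderOf_eq_one_iff.1 (by rw [hm, h0, pow_zero]))).symm)
    refine ⟨((⁅w, r ^ p ^ (m - 1)⁆ : T) : G), ?_, ?_⟩
    · have := D.comm p T hp.out hT w hwV w.2 _ (r ^ p ^ (m - 1)).2
      rwa [← Subgroup.coe_subtype, map_commutatorElement]
    · rw [orderOf_coe, hmul, orderOf_pow_of_dvd (pow_ne_zero _ hp.out.ne_zero)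
        (by rw [hm]; exact pow_dvd_pow p (by omega)), hm, Nat.pow_div (by omega) hp.out.pos,
        show m - (m - 1) = 1 by omega, pow_one]

/-- The simple group has odd order. -/
theorem SData.odd : Odd (Nat.card G) := by
  rw [Nat.odd_iff, ← Nat.two_dvd_ne_zero]
  intro h2
  have : Fact (Nat.Prime 2) := ⟨Nat.prime_two⟩
  obtain ⟨v, hv, hvo⟩ := D.exists_order h2
  have hvv : v * v = 1 := by rw [← pow_two, ← hvo, pow_orderOf_eq_one]
  have hv1 : v ≠ 1 := fun e => by rw [e, orderOf_one] at hvo; omega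
  obtain ⟨N, hN, hNp, hvN⟩ := CfsgLib.Involutions.exists_normal_isPGroup_of_mem (p := 2) (x := v)
    fun g => by
      set w := g * v * g⁻¹ with hw
      set H := closure ({v, w} : Set G) with hH
      have hww : w * w = 1 := by
        rw [hw, show g * v * g⁻¹ * (g * v * g⁻¹) = g * (v * v) * g⁻¹ by group, hvv]; group
      have hvH : v ∈ H := subset_closure (Or.inl rfl)
      have hwH : w ∈ H := subset_closure (Or.inr rfl)
      have hne : H ≠ ⊤ := by
        intro htop
        have hvi : v⁻¹ = v := inv_eq_of_mul_eq_one_right hvv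
        have hwi : w⁻¹ = w := inv_eq_of_mul_eq_one_right hww
        have hinv : ∀ x, x = v ∨ x = w → x * (v * w) * x⁻¹ = (v * w)⁻¹ := by
          intro x hx
          have hrev : (v * w)⁻¹ = w * v := by rw [mul_inv_rev v w, hvi, hwi]
          rcases hx with hx | hx <;> rw [hx, hrev]
          · rw [hvi]
            calc v * (v * w) * v = (v * v) * w * v := by group
              _ = w * v := by rw [hvv, one_mul]
          · rw [hwi]
            calc w * (v * w) * w = w * v * (w * w) := by group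
              _ = w * v := by rw [hww, mul_one]
        have hnorm : H ≤ normalizer (zpowers (v * w) : Set G) := by
          rw [hH, closure_le]
          intro x hx
          refine CfsgLib.NilpotentMaximal.mem_normalizer_of_conj _ _ fun y hy => ?_
          obtain ⟨i, rfl⟩ := mem_zpowers_iff.1 hy
          rw [← conj_zpow, hinv x (by simpa using hx)]
          exact zpow_mem (inv_mem (mem_zpowers _)) i
        rcases D.normal_cases _ (normalizer_eq_top_iff.1 (top_le_iff.1 (htop ▸ hnorm))) with h1 | h1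
        · have hvw : v * w = 1 := mem_bot.1 (h1 ▸ mem_zpowers (v * w))
          have hwv : w = v := by
            rw [← inv_eq_of_mul_eq_one_right hvw, hvi]
          refine D.not_solvable (Group.isSolvable_of_comm fun a b => ?_)
          have hall : ∀ x, x ∈ zpowers v := fun x => by
            have hle : H ≤ zpowers v := by
              rw [hH, closure_le]
              rintro y (rfl | rfl)
              · exact mem_zpowers _
              · show w ∈ zpowers v; rw [hwv]; exact mem_zpowers _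
            exact hle (htop ▸ mem_top x)
          obtain ⟨i, rfl⟩ := mem_zpowers_iff.1 (hall a)
          obtain ⟨j, rfl⟩ := mem_zpowers_iff.1 (hall b)
          exact ((Commute.refl v).zpow_zpow i j).eq
        · refine D.not_solvable (Group.isSolvable_of_comm fun a b => ?_)
          obtain ⟨i, rfl⟩ := mem_zpowers_iff.1 (h1 ▸ mem_top a : a ∈ zpowers (v * w))
          obtain ⟨j, rfl⟩ := mem_zpowers_iff.1 (h1 ▸ mem_top b : b ∈ zpowers (v * w))
          exact ((Commute.refl (v * w)).zpow_zpow i j).eq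
      have hwo : orderOf w = 2 := (MulEquiv.orderOf_eq (MulAut.conj g) v).trans hvo
      have h1 := D.core H hne 2 Nat.prime_two v hvH hv ⟨1, by rw [hvo, pow_one]⟩
      have h2' := D.core H hne 2 Nat.prime_two w hwH (D.conj v hv g) ⟨1, by rw [hwo, pow_one]⟩
      have hle : H ≤ (Cfsg.pCore 2 H).map H.subtype := by
        rw [hH, closure_le]
        rintro y (rfl | rfl)
        · exact ⟨_, h1, rfl⟩
        · exact ⟨_, h2', rfl⟩
      exact ((PCore.pCore_isPGroup (p := 2) (G := H)).map H.subtype).to_le hle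
  rcases D.normal_cases N hN with h | h
  · exact hv1 (mem_bot.1 (h ▸ hvN))
  · subst h
    exact D.not_pgroup 2 (hNp.of_equiv topEquiv)

/-- The nontrivial distinguished elements of a `p`-subgroup. -/
def SData.S (P : Subgroup G) : Set G := {v | v ∈ D.V ∧ v ∈ P ∧ v ≠ 1}

omit [Finite G] in
theorem SData.mem_S_conj {P Q : Subgroup G} {g : G} (hPQ : P.map (MulAut.conj g).toMonoidHom = Q) {v : G}
    (hv : v ∈ D.S P) : g * v * g⁻¹ ∈ D.S Q :=
  ⟨D.conj v hv.1 g, hPQ ▸ ⟨v, hv.2.1, rfl⟩, fun h => hv.2.2 (by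
    rw [mul_inv_eq_one] at h
    exact mul_left_cancel (h.trans (mul_one g).symm))⟩

theorem SData.ncard_S_eq {p : ℕ} [Fact p.Prime] (P Q : Sylow p G) :
    (D.S (P : Subgroup G)).ncard = (D.S (Q : Subgroup G)).ncard := by
  have key : ∀ P Q : Sylow p G, (D.S (P : Subgroup G)).ncard ≤ (D.S (Q : Subgroup G)).ncard := by
    intro P Q
    obtain ⟨g, hg⟩ := MulAction.exists_smul_eq G P Q
    have hmap : (P : Subgroup G).map (MulAut.conj g).toMonoidHom = (Q : Subgroup G) := by
      rw [← hg]; rfl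
    refine Set.ncard_le_ncard_of_injOn (fun v => g * v * g⁻¹) (fun v hv => D.mem_S_conj hmap hv)
      (fun a _ b _ h => mul_left_cancel (mul_right_cancel h)) (Set.toFinite _)
  exact le_antisymm (key P Q) (key Q P)

/-- One element more normalises. -/
theorem SData.exists_normalizing {p : ℕ} [Fact p.Prime] (P : Sylow p G) {Y : Set G}
    (hY : Y ⊆ D.S (P : Subgroup G)) (hne : Y ≠ D.S (P : Subgroup G)) :
    ∃ v ∈ D.S (P : Subgroup G), v ∉ Y ∧ v ∈ normalizer (closure Y : Set G) := by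
  by_contra hcon
  push Not at hcon
  set SP := D.S (P : Subgroup G) with hSP
  set P₀ := closure SP with hP₀
  have hP₀P : P₀ ≤ (P : Subgroup G) := by
    rw [hP₀, closure_le]; exact fun v hv => hv.2.1
  have : Group.IsNilpotent P₀ := (P.2.to_le hP₀P).isNilpotent
  set N₁ := normalizer (closure Y : Set G) with hN₁
  by_cases htop : P₀ ≤ N₁
  · apply hne
    exact Set.Subset.antisymm hY fun v hv => by_contra fun hvY =>
      hcon v hv hvY (htop (subset_closure hv))
  have hlt : N₁.subgroupOf P₀ < ⊤ := lt_top_iff_ne_top.2 fun h => htop (subgroupOf_eq_top.1 h)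
  obtain ⟨g, hg, hgN⟩ := SetLike.exists_of_lt (Group.normalizerCondition_of_isNilpotent _ hlt)
  apply hgN
  rw [mem_subgroupOf, hN₁]
  refine CfsgLib.Involutions.mem_normalizer_closure fun y hy => ?_
  have hyN : (⟨y, subset_closure (hY hy)⟩ : P₀) ∈ N₁.subgroupOf P₀ :=
    mem_subgroupOf.2 (le_normalizer (subset_closure hy))
  have h1 := (mem_normalizer_iff.1 hg _).1 hyN
  have hyS : (g : G) * y * (g : G)⁻¹ ∈ SP := by
    refine ⟨D.conj y (hY hy).1 g, (P : Subgroup G).mul_mem ((P : Subgroup G).mul_mem (hP₀P g.2) (hY hy).2.1)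
      ((P : Subgroup G).inv_mem (hP₀P g.2)), fun h => (hY hy).2.2 ?_⟩
    rw [mul_inv_eq_one] at h
    exact mul_left_cancel (h.trans (mul_one _).symm)
  exact subset_closure (by_contra fun hgy => hcon _ hyS hgy (mem_subgroupOf.1 h1))

/-- Distinguished elements determine their Sylow sets. -/
theorem SData.ti_values {p : ℕ} [hp : Fact p.Prime] (P Q : Sylow p G) {x : G}
    (hxP : x ∈ D.S (P : Subgroup G)) (hxQ : x ∈ D.S (Q : Subgroup G)) :
    D.S (P : Subgroup G) = D.S (Q : Subgroup G) := by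
  classical
  by_contra hne
  let bad : Set (Sylow p G × Sylow p G) :=
    {z | (D.S (z.1 : Subgroup G) ∩ D.S (z.2 : Subgroup G)).Nonempty ∧
      D.S (z.1 : Subgroup G) ≠ D.S (z.2 : Subgroup G)}
  obtain ⟨⟨P₁, Q₁⟩, ⟨hY0, hne₁⟩, hmax⟩ := Set.exists_max_image bad
    (fun z => (D.S (z.1 : Subgroup G) ∩ D.S (z.2 : Subgroup G)).ncard) (Set.toFinite _)
    ⟨(P, Q), ⟨x, hxP, hxQ⟩, hne⟩
  set Y := D.S (P₁ : Subgroup G) ∩ D.S (Q₁ : Subgroup G) with hY
  have hYne : ∀ R : Sylow p G, Y ⊆ D.S (R : Subgroup G) → (R = P₁ ∨ R = Q₁) →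
      Y ≠ D.S (R : Subgroup G) := by
    intro R _ hR h
    apply hne₁
    rcases hR with rfl | rfl
    · exact Set.eq_of_subset_of_ncard_le (fun v hv => (h.symm ▸ hv : v ∈ Y).2)
        (D.ncard_S_eq Q₁ R).le (Set.toFinite _)
    · exact (Set.eq_of_subset_of_ncard_le (fun v hv => (h.symm ▸ hv : v ∈ Y).1)
        (D.ncard_S_eq P₁ R).le (Set.toFinite _)).symm
  obtain ⟨u, hu, huY, huN⟩ := D.exists_normalizing P₁ Set.inter_subset_left
    (hYne P₁ Set.inter_subset_left (Or.inl rfl))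
  obtain ⟨v, hv, hvY, hvN⟩ := D.exists_normalizing Q₁ Set.inter_subset_right
    (hYne Q₁ Set.inter_subset_right (Or.inr rfl))
  have hYp : IsPGroup p (closure Y) := P₁.2.to_le ((closure_le _).2 fun z hz => hz.1.2.1)
  have hY1 : closure Y ≠ ⊥ := fun h => by
    obtain ⟨y, hy⟩ := hY0
    exact hy.1.2.2 (mem_bot.1 (h ▸ subset_closure hy))
  obtain ⟨R, hR⟩ := D.exists_sylow_values (p := p) (D.normalizer_ne_top hYp hY1)
  have hord : ∀ (R : Sylow p G) {z : G}, z ∈ (R : Subgroup G) → ∃ a, orderOf z = p ^ a := fun R z hz => by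
    obtain ⟨a, ha⟩ := IsPGroup.iff_orderOf.1 R.2 ⟨z, hz⟩
    exact ⟨a, by rwa [Subgroup.orderOf_mk] at ha⟩
  have hmemR : ∀ z ∈ D.S (P₁ : Subgroup G) ∪ D.S (Q₁ : Subgroup G),
      z ∈ normalizer (closure Y : Set G) → z ∈ D.S (R : Subgroup G) := by
    rintro z (hz | hz) hzN
    · exact ⟨hz.1, hR z hz.1 hzN (hord P₁ hz.2.1), hz.2.2⟩
    · exact ⟨hz.1, hR z hz.1 hzN (hord Q₁ hz.2.1), hz.2.2⟩
  have hYR : Y ⊆ D.S (R : Subgroup G) := fun z hz =>
    hmemR z (Or.inl hz.1) (le_normalizer (subset_closure hz))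
  have hstep : ∀ (S₁ : Sylow p G) (w : G), Y ⊆ D.S (S₁ : Subgroup G) → w ∈ D.S (S₁ : Subgroup G) →
      w ∉ Y → w ∈ D.S (R : Subgroup G) → D.S (S₁ : Subgroup G) = D.S (R : Subgroup G) := by
    intro S₁ w hYS hw hwY hwR
    by_contra hne2
    have h1 := hmax (S₁, R) ⟨⟨w, hw, hwR⟩, hne2⟩
    have h2 : Y ⊂ D.S (S₁ : Subgroup G) ∩ D.S (R : Subgroup G) :=
      ⟨fun z hz => ⟨hYS hz, hYR hz⟩, fun h => hwY (h ⟨hw, hwR⟩)⟩
    exact absurd h1 (not_le.2 (Set.ncard_lt_ncard h2 (Set.toFinite _)))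
  exact hne₁ ((hstep P₁ u Set.inter_subset_left hu huY (hmemR u (Or.inl hu) huN)).trans
    (hstep Q₁ v Set.inter_subset_right hv hvY (hmemR v (Or.inr hv) hvN)).symm)

/-- A distinguished element in the centre of a Sylow subgroup. -/
theorem SData.exists_center {p : ℕ} [hp : Fact p.Prime] (hpG : p ∣ Nat.card G) (P : Sylow p G) :
    ∃ x ∈ D.S (P : Subgroup G), ∀ u ∈ (P : Subgroup G), u * x = x * u := by
  obtain ⟨v, hv, hvo⟩ := D.exists_order hpG
  obtain ⟨R, hR⟩ := (IsPGroup.of_card (n := 1) (by rw [Nat.card_zpowers, hvo, pow_one]) :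
    IsPGroup p (zpowers v)).exists_le_sylow
  obtain ⟨g, hg⟩ := MulAction.exists_smul_eq G R P
  have hmap : (R : Subgroup G).map (MulAut.conj g).toMonoidHom = (P : Subgroup G) := by rw [← hg]; rfl
  have hvS : g * v * g⁻¹ ∈ D.S (P : Subgroup G) :=
    D.mem_S_conj hmap ⟨hv, hR (mem_zpowers v), fun e => hp.out.ne_one (by rw [← hvo, e, orderOf_one])⟩
  have := P.2.isNilpotent
  obtain ⟨c, hc⟩ := Group.IsNilpotent.nilpotent (G := ↥(P : Subgroup G))
  obtain ⟨w, hwc, hwV, hw1⟩ := D.central_value P.2 c ⟨_, hvS.2.1⟩ (hc ▸ mem_top _) hvS.1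
    (fun h => hvS.2.2 (congrArg Subtype.val h))
  exact ⟨w, ⟨hwV, w.2, fun h => hw1 (Subtype.ext h)⟩,
    fun u hu => congrArg Subtype.val (mem_center_iff.1 hwc ⟨u, hu⟩)⟩

/-- Sylow subgroups are strongly trivial-intersection. -/
theorem SData.sylow_ti {p : ℕ} [hp : Fact p.Prime] (P : Sylow p G) {u g : G}
    (hu : u ∈ (P : Subgroup G)) (hu1 : u ≠ 1) (hg : g * u * g⁻¹ ∈ (P : Subgroup G)) :
    g ∈ normalizer ((P : Subgroup G) : Set G) := by
  classical
  have hpG : p ∣ Nat.card G := by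
    obtain ⟨a, ha⟩ := IsPGroup.iff_orderOf.1 P.2 ⟨u, hu⟩
    rw [Subgroup.orderOf_mk] at ha
    refine (dvd_pow_self p fun h0 => hu1 ?_).trans (ha ▸ _root_.orderOf_dvd_natCard u)
    exact orderOf_eq_one_iff.1 (by rw [ha, h0, pow_zero])
  obtain ⟨x, hxS, hxc⟩ := D.exists_center hpG P
  set H := normalizer (closure (D.S (P : Subgroup G)) : Set G) with hH
  have hctrl : ∀ w g : G, w ∈ (P : Subgroup G) → w ≠ 1 → g * w * g⁻¹ ∈ (P : Subgroup G) → g ∈ H := by
    intro w g hw hw1 hgw
    have hgw1 : g * w * g⁻¹ ≠ 1 := fun h => hw1 (by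
      rw [mul_inv_eq_one] at h
      exact mul_left_cancel (h.trans (mul_one g).symm))
    obtain ⟨R, hR⟩ := D.exists_sylow_values (p := p) (D.centralizer_ne_top hgw1)
    obtain ⟨a, ha⟩ := IsPGroup.iff_orderOf.1 P.2 ⟨x, hxS.2.1⟩
    rw [Subgroup.orderOf_mk] at ha
    have hxR : x ∈ D.S (R : Subgroup G) :=
      ⟨hxS.1, hR x hxS.1 (mem_centralizer_singleton_iff.2 (hxc _ hgw).symm) ⟨a, ha⟩, hxS.2.2⟩
    let P' : Sylow p G := g • P
    have hmap : (P : Subgroup G).map (MulAut.conj g).toMonoidHom = (P' : Subgroup G) := rfl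
    have hxg := D.mem_S_conj hmap hxS
    have hgc : g * x * g⁻¹ ∈ centralizer ({g * w * g⁻¹} : Set G) := by
      rw [mem_centralizer_singleton_iff]
      calc g * x * g⁻¹ * (g * w * g⁻¹) = g * (x * w) * g⁻¹ := by group
        _ = g * (w * x) * g⁻¹ := by rw [hxc w hw]
        _ = _ := by group
    have hgR : g * x * g⁻¹ ∈ D.S (R : Subgroup G) :=
      ⟨hxg.1, hR _ hxg.1 hgc ⟨a, (MulEquiv.orderOf_eq (MulAut.conj g) x).trans ha⟩, hxg.2.2⟩
    have heq : D.S (P' : Subgroup G) = D.S (P : Subgroup G) :=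
      (D.ti_values P' R hxg hgR).trans (D.ti_values P R hxS hxR).symm
    exact CfsgLib.Involutions.mem_normalizer_closure fun c hc =>
      subset_closure (heq ▸ D.mem_S_conj hmap hc)
  have hPH : (P : Subgroup G) ≤ H := fun c hc =>
    CfsgLib.Involutions.mem_normalizer_closure fun v hv => subset_closure
      (D.mem_S_conj (Q := (P : Subgroup G)) (g := c) (by
        refine eq_of_le_of_card_ge ?_ (card_map_of_injective (MulAut.conj c).injective).ge
        rintro _ ⟨y, hy, rfl⟩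
        exact mul_mem (mul_mem hc hy) (inv_mem hc)) hv)
  have hHne : H ≠ ⊤ := D.normalizer_ne_top
    (P.2.to_le ((closure_le _).2 fun z hz => hz.2.1))
    (fun h => hxS.2.2 (mem_bot.1 (h ▸ subset_closure hxS)))
  -- transfer: `P` lies in the derived subgroup of `H`, hence in its core
  have hperf : commutator G = ⊤ := by
    rcases D.normal_cases (commutator G) inferInstance with h | h
    · exfalso
      refine D.nc ⟨⟨fun a b => ?_⟩⟩
      rw [← commutatorElement_eq_one_iff_mul_comm, ← mem_bot, ← h]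
      exact commutator_mem_commutator (mem_top a) (mem_top b)
    · exact h
  have hfoc := Transfer.commutator_inf_eq_of_controls P hPH fun w hw g hg => by
    by_cases hw1 : w = 1
    · exact ⟨1, one_mem _, by rw [hw1]; simp⟩
    · exact ⟨g, hctrl w g hw hw1 hg, rfl⟩
  rw [hperf, top_inf_eq] at hfoc
  have hPH' : ∀ c (hc : c ∈ (P : Subgroup G)), (⟨c, hPH hc⟩ : H) ∈ commutator H := by
    intro c hc
    have h1 : c ∈ ⁅H, H⁆ := (hfoc ▸ hc : c ∈ ⁅H, H⁆ ⊓ (P : Subgroup G)).1
    have h2 : ⁅H, H⁆ = (commutator H).map H.subtype := (map_subtype_commutator H).symm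
    rw [h2] at h1
    obtain ⟨y, hy, hyc⟩ := h1
    rwa [show (⟨c, hPH hc⟩ : H) = y from Subtype.ext hyc.symm]
  have hcH := complement_mod_core (G := H) (q := p) fun T hT a ha hac t ht => by
    refine ⟨k, ?_⟩
    have ha' : (a : G) ∈ normalizer (T.map H.subtype : Set G) :=
      CfsgLib.NilpotentMaximal.mem_normalizer_of_conj _ _ fun y hy => by
        obtain ⟨s, hs, rfl⟩ := hy
        exact ⟨a * s * a⁻¹, (mem_normalizer_iff.1 ha s).1 hs, rfl⟩
    have hV := D.iter p (T.map H.subtype) hp.out (hT.map _) (a : G) ha' (by rwa [orderOf_coe]) t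
      ⟨t, ht, rfl⟩ k le_rfl
    rw [show (t : G) = H.subtype t from rfl, show (a : G) = H.subtype a from rfl, ← itc_map] at hV
    obtain ⟨e, he⟩ := IsPGroup.iff_orderOf.1 hT ⟨_, itc_mem ht ha k⟩
    rw [Subgroup.orderOf_mk] at he
    exact D.core H hHne p hp.out _ (itc t a k).2 hV ⟨e, by rw [orderOf_coe]; exact he⟩
  have hPcore : ∀ c (hc : c ∈ (P : Subgroup G)), (⟨c, hPH hc⟩ : H) ∈ Cfsg.pCore p H := by
    set R := Cfsg.pResidual p (H ⧸ Cfsg.pCore p H) with hR
    have hRn : R.Normal := Transfer.pResidual_normal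
    have hRc := Transfer.hasNormalPComplement_iff.1 hcH
    let φ : H →* (H ⧸ Cfsg.pCore p H) ⧸ R :=
      (QuotientGroup.mk' R).comp (QuotientGroup.mk' (Cfsg.pCore p H))
    have hφ : Function.Surjective φ :=
      (QuotientGroup.mk'_surjective R).comp (QuotientGroup.mk'_surjective _)
    have hqg := Transfer.isPGroup_quotient_of_pResidual_le R (le_rfl : R ≤ R)
    let PH : Sylow p H := P.subtype hPH
    have h1 : (PH : Subgroup H).map φ = ⊤ :=
      ((PH.mapSurjective hφ).is_maximal' (hqg.to_subgroup ⊤) le_top).symm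
    have hsub : Subsingleton ((H ⧸ Cfsg.pCore p H) ⧸ R) := by
      by_contra hns
      have : Nontrivial ((H ⧸ Cfsg.pCore p H) ⧸ R) := not_subsingleton_iff_nontrivial.1 hns
      have := @IsNilpotent.to_isSolvable _ _ hqg.isNilpotent
      have hlt := Group.IsSolvable.commutator_lt_top_of_nontrivial ((H ⧸ Cfsg.pCore p H) ⧸ R)
      refine hlt.not_ge (h1 ▸ ?_)
      rintro _ ⟨y, hy, rfl⟩
      have hmap : (commutator H).map φ ≤ commutator ((H ⧸ Cfsg.pCore p H) ⧸ R) := by
        rw [_root_.commutator_def, _root_.commutator_def, map_commutator]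
        exact commutator_mono le_top le_top
      exact hmap ⟨y, hPH' (y : G) hy, rfl⟩
    intro c hc
    have hRt : R = ⊤ := by
      rw [eq_top_iff]
      exact fun y _ => (QuotientGroup.eq_one_iff y).1 (hsub.elim _ _)
    have hcR : QuotientGroup.mk' (Cfsg.pCore p H) ⟨c, hPH hc⟩ ∈ R := hRt ▸ mem_top _
    obtain ⟨e, he⟩ := IsPGroup.iff_orderOf.1 P.2 ⟨c, hc⟩
    rw [Subgroup.orderOf_mk] at he
    have hd1 : orderOf (QuotientGroup.mk' (Cfsg.pCore p H) ⟨c, hPH hc⟩) ∣ p ^ e :=
      (orderOf_map_dvd _ _).trans (by rw [Subgroup.orderOf_mk, he])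
    refine (QuotientGroup.eq_one_iff _).1 (orderOf_eq_one_iff.1 ?_)
    exact Nat.eq_one_of_dvd_coprimes
      (Nat.Coprime.pow_left e (hp.out.coprime_iff_not_dvd.2 hRc)) hd1 (R.orderOf_dvd_natCard hcR)
  have hPeq : (Cfsg.pCore p H).map H.subtype = (P : Subgroup G) :=
    P.is_maximal' ((PCore.pCore_isPGroup (p := p) (G := H)).map H.subtype)
      fun c hc => ⟨_, hPcore c hc, rfl⟩
  have hgH := hctrl u g hu hu1 hg
  refine CfsgLib.NilpotentMaximal.mem_normalizer_of_conj _ _ fun c hc => ?_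
  rw [← hPeq] at hc ⊢
  obtain ⟨y, hy, rfl⟩ := hc
  exact ⟨⟨g, hgH⟩ * y * ⟨g, hgH⟩⁻¹, (Fitting.pCore_normal p).conj_mem y hy _, rfl⟩

end CfsgLib.NilpLCS
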