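import Cfsg.Agent.Lib.Struct77.NilpLCS.Links
import Cfsg.Agent.Lib.OddOrder.PuigSeries
import Cfsg.Agent.Lib.Solvable.Fitting

/-!
Blocks with a common intersection: the linked family attached to a block in which some element
outside the Fitting subgroup commutes with a non-identity element of it.
-/

set_option autoImplicit false

namespace CfsgLib.NilpLCS

open Subgroup
open scoped commutatorElement Pointwise

universe u

variable {G : Type u} [Group G] [Finite G] {k : ℕ}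

omit [Finite G] in
theorem fit_map (H : Subgroup G) (φ : MulAut G) :
    fit (H.map φ.toMonoidHom) = (fit H).map φ.toMonoidHom := by
  have h := Fitting.fitting_map_mulEquiv (H.equivMapOfInjective φ.toMonoidHom φ.injective)
  rw [fit, fit, ← h, Subgroup.map_map, Subgroup.map_map]
  rfl

omit [Finite G] in
theorem mem_fit_map (H : Subgroup G) (φ : MulAut G) {f : G} (hf : f ∈ fit H) :
    φ f ∈ fit (H.map φ.toMonoidHom) := by
  rw [fit_map]; exact ⟨f, hf, rfl⟩

theorem Blk.map {H : Subgroup G} (hH : Blk H) (g : G) :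
    Blk (H.map (MulAut.conj g).toMonoidHom) := by
  obtain ⟨p, hp, P, hP, rfl⟩ := hH
  refine ⟨p, hp, g • P, fun h => hP ?_, ?_⟩
  · have e : Nat.card ((g • P : Sylow p G) : Subgroup G) = Nat.card (P : Subgroup G) := by
      rw [Sylow.coe_subgroup_smul]; exact Coprime.card_conj_smul _ g
    rw [h, Subgroup.card_bot] at e
    exact Subgroup.eq_bot_of_card_eq _ e.symm
  · exact Subgroup.map_equiv_normalizer_eq (P : Subgroup G) (MulAut.conj g)

theorem fit_le_normalizer (H : Subgroup G) : H ≤ normalizer (fit H : Set G) := fun _ hh =>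
  CfsgLib.NilpotentMaximal.mem_normalizer_of_conj _ _ fun _ hy => fit_conj H hh hy

/-- Decomposition along a complement. -/
theorem IsCompl.decomp {H E : Subgroup G} (h : IsCompl H E) {x : G} (hx : x ∈ H) :
    ∃ f ∈ fit H, ∃ y ∈ E, x = f * y := by
  have he : E ≤ normalizer (fit H : Set G) := h.le.trans (fit_le_normalizer H)
  have hx' : x ∈ ((fit H ⊔ E : Subgroup G) : Set G) := by rw [h.sup]; exact hx
  rw [Subgroup.coe_mul_of_right_le_normalizer_left _ _ he] at hx'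
  obtain ⟨f, hf, y, hy, e⟩ := hx'
  exact ⟨f, hf, y, hy, e.symm⟩

/-- A complement containing a given subgroup of order prime to the Fitting subgroup. -/
theorem IsCompl.exists_ge {H E : Subgroup G} (h : IsCompl H E) {U : Subgroup G} (hU : U ≤ H)
    (hc : (Nat.card U).Coprime (Nat.card (fit H))) : ∃ E', IsCompl H E' ∧ U ≤ E' := by
  have := fit_nilpotent H
  obtain ⟨x, hx, hle⟩ := Coprime.exists_conj_le_of_coprime E (fit H)
    (h.le.trans (fit_le_normalizer H)) h.coprime.symm U (by rw [sup_comm, h.sup]; exact hU) hc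
    (Or.inr inferInstance)
  refine ⟨MulAut.conj x⁻¹ • E, ⟨?_, ?_, ?_, ?_⟩, ?_⟩
  · refine Coprime.conj_smul_le.2 fun e he => ?_
    exact mul_mem (mul_mem (inv_mem (fit_le H hx)) (h.le he)) (inv_mem (inv_mem (fit_le H hx)))
  · refine eq_bot_iff.2 fun y hy => ?_
    have h2 : x * y * x⁻¹ ∈ E := by simpa using Coprime.mem_conj_smul.1 hy.2
    have h1 : x * y * x⁻¹ ∈ fit H ⊓ E :=
      ⟨(fit H).mul_mem ((fit H).mul_mem hx hy.1) ((fit H).inv_mem hx), h2⟩
    rw [h.inf, mem_bot] at h1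
    exact mem_bot.2 (conj_eq_one_iff.1 h1)
  · refine le_antisymm (sup_le (fit_le H) (Coprime.conj_smul_le.2 fun e he =>
      mul_mem (mul_mem (inv_mem (fit_le H hx)) (h.le he)) (inv_mem (inv_mem (fit_le H hx))))) ?_
    refine h.sup.symm.le.trans (sup_le le_sup_left fun e he => ?_)
    have h1 : x⁻¹ * e * x ∈ fit H ⊔ MulAut.conj x⁻¹ • E := mem_sup_right
      (Coprime.mem_conj_smul.2 (by simpa [mul_assoc] using he))
    have h2 := mul_mem (mul_mem (mem_sup_left (T := MulAut.conj x⁻¹ • E) hx) h1)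
      (inv_mem (mem_sup_left (T := MulAut.conj x⁻¹ • E) hx))
    simpa [mul_assoc] using h2
  · rw [Coprime.card_conj_smul]; exact h.coprime
  · intro u hu
    rw [Coprime.mem_conj_smul, inv_inv]
    exact Coprime.conj_smul_le.1 hle u hu

/-- A central element of prime order of a nilpotent subgroup. -/
theorem exists_central_of_nilpotent {E : Subgroup G} (hE : Group.IsNilpotent E) {q : ℕ}
    (hq : q.Prime) (hqE : q ∣ Nat.card E) :
    ∃ a ∈ E, orderOf a = q ∧ ∀ b ∈ E, Commute a b := by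
  have := Fact.mk hq
  let S : Sylow q E := default
  have hS : (S : Subgroup E).Normal := inferInstance
  obtain ⟨⟨z, hzc, hzS⟩, hz1⟩ := ne_bot_iff_exists_ne_one.1
    (CfsgLib.OddOrder.PuigSeries.inf_center_ne_bot (S : Subgroup E) (S.ne_bot_of_dvd_card hqE))
  obtain ⟨r, u, hr, hu, huo, hrd⟩ := exists_prime_pow (x := z) fun e => hz1 (Subtype.ext e)
  obtain ⟨i, hi⟩ := pelement_of_mem S.2 hzS
  rw [hi] at hrd
  obtain rfl : r = q := (Nat.prime_dvd_prime_iff_eq hr hq).1 (hr.dvd_of_dvd_pow hrd)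
  refine ⟨u, u.2, by rw [orderOf_coe, huo], fun b hb => ?_⟩
  have hu' : u ∈ center E := zpowers_le.2 hzc hu
  exact (congrArg Subtype.val (mem_center_iff.1 hu' ⟨b, hb⟩) : b * (u : G) = u * b).symm

/-- A linked block over the common intersection `W`. -/
structure Lnk (W H E : Subgroup G) : Prop where
  blk : Blk H
  compl : IsCompl H E
  le : W ≤ H
  E_le : E ≤ W
  comm : ∀ c ∈ W, c ∈ fit H → ∀ b ∈ E, Commute c b
  full : ∀ c ∈ fit H, (∀ b ∈ E, Commute c b) → c ∈ W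
  E_ne : E ≠ ⊥
  R_ne : W ⊓ fit H ≠ ⊥

theorem Lnk.decomp {W H E : Subgroup G} (L : Lnk W H E) {w : G} (hw : w ∈ W) :
    ∃ f ∈ W ⊓ fit H, ∃ y ∈ E, w = f * y ∧ Commute f y := by
  obtain ⟨f, hf, y, hy, rfl⟩ := L.compl.decomp (L.le hw)
  have hfW : f ∈ W := by simpa using mul_mem hw (inv_mem (L.E_le hy))
  exact ⟨f, ⟨hfW, hf⟩, y, hy, rfl, L.comm f hfW hf y hy⟩

theorem Lnk.card_eq {W H E : Subgroup G} (L : Lnk W H E) :
    Nat.card W * Nat.card (fit H) = Nat.card (W ⊓ fit H : Subgroup G) * Nat.card H := by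
  have hn : E ≤ normalizer ((W ⊓ fit H : Subgroup G) : Set G) := fun b hb =>
    CfsgLib.NilpotentMaximal.mem_normalizer_of_conj _ _ fun y hy => by
      rw [← (L.comm y hy.1 hy.2 b hb).eq, mul_inv_cancel_right]; exact hy
  have h1 := Coprime.card_sup_of_disjoint hn
    (eq_bot_iff.2 fun y hy => L.compl.inf ▸ (⟨hy.1.2, hy.2⟩ : y ∈ fit H ⊓ E))
  have h2 : E ⊔ (W ⊓ fit H) = W := le_antisymm (sup_le L.E_le inf_le_left) fun w hw => by
    obtain ⟨f, hf, y, hy, rfl, -⟩ := L.decomp hw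
    exact mul_mem (mem_sup_right hf) (mem_sup_left hy)
  rw [h2] at h1
  rw [h1, L.compl.card_eq]
  ring

theorem Lnk.mem_E {W H E : Subgroup G} (L : Lnk W H E) {w : G} (hw : w ∈ W)
    (hc : (orderOf w).Coprime (Nat.card (fit H))) : w ∈ E := by
  obtain ⟨m, hm⟩ := exists_pow_eq_self_of_coprime (x := w) hc.symm
  obtain ⟨f, hf, y, hy, e, hfy⟩ := L.decomp hw
  rw [← hm]
  refine pow_mem ?_ m
  rw [e, hfy.mul_pow, orderOf_dvd_iff_pow_eq_one.1 (orderOf_dvd_natCard _ hf.2), one_mul]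
  exact pow_mem hy _

variable (D : SData G k)
include D

/-- Fitting elements of two different blocks, each normalising the other, commute. -/
theorem SData.commute_two {H H' : Subgroup G} (hH : Blk H) (hH' : Blk H') (hne : H ≠ H') {x y : G}
    (hx : x ∈ fit H) (hy : y ∈ fit H') (hxH : x ∈ H') (hyH : y ∈ H) : Commute x y := by
  refine commutatorElement_eq_one_iff_mul_comm.1 ?_
  by_contra hc
  refine hne (D.blk_eq_of_mem hH hH' ?_ ?_ hc)
  · rw [commutatorElement_def, mul_assoc x, mul_assoc]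
    exact mul_mem hx (fit_conj H hyH (inv_mem hx))
  · rw [commutatorElement_def]
    exact mul_mem (fit_conj H' hxH hy) (inv_mem hy)

theorem Lnk.three_mul_le {W H E : Subgroup G} (L : Lnk W H E) :
    3 * Nat.card (W ⊓ fit H : Subgroup G) ≤ Nat.card (fit H) := by
  have hlt : W ⊓ fit H < fit H := lt_of_le_of_ne inf_le_right fun heq => by
    have := D.solv H (D.blk_ne_top L.blk)
    have hF : fit H ≤ W := inf_eq_right.1 heq
    refine L.E_ne (eq_bot_iff.2 fun b hb => L.compl.inf ▸ ⟨?_, hb⟩)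
    have h1 : (⟨b, L.compl.le hb⟩ : H) ∈ centralizer (Cfsg.fittingSubgroup H : Set H) :=
      mem_centralizer_iff.2 fun y hy => Subtype.ext
        (L.comm (y : G) (hF ⟨y, hy, rfl⟩) ⟨y, hy, rfl⟩ b hb).eq
    exact ⟨_, Fitting.centralizer_fitting_le h1, rfl⟩
  obtain ⟨c, hc⟩ := card_dvd_of_le (le_of_lt hlt)
  have hodd : Odd (Nat.card (fit H)) := D.odd.of_dvd_nat (card_subgroup_dvd_card _)
  rw [hc] at hodd
  obtain ⟨c', rfl⟩ := (Nat.odd_mul.1 hodd).2
  rcases Nat.eq_zero_or_pos c' with rfl | h0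
  · exact absurd (Subgroup.eq_of_le_of_card_ge (le_of_lt hlt) (by rw [hc]; simp)) hlt.ne
  · rw [hc, mul_comm]; exact Nat.mul_le_mul_left _ (by omega)

theorem Lnk.inf_le {W H E : Subgroup G} (L : Lnk W H E) {H' : Subgroup G} (hH' : Blk H')
    (hne : H ≠ H') (hW : W ≤ H') {a : G} (ha : a ∈ E) (ha1 : a ≠ 1) (haF : a ∈ fit H') :
    H ⊓ H' ≤ W := by
  intro w hw
  obtain ⟨f, hf, y, hy, rfl⟩ := L.compl.decomp hw.1
  have hfH' : f ∈ H' := by simpa using H'.mul_mem hw.2 (H'.inv_mem (hW (L.E_le hy)))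
  have hfa := D.commute_two L.blk hH' hne hf haF hfH' (L.compl.le ha)
  exact mul_mem (L.full f hf (D.blk_fixed L.blk L.compl ha ha1 hf hfa)) (L.E_le hy)

theorem Lnk.pair_inf_le {W H E H' E' : Subgroup G} (L : Lnk W H E) (L' : Lnk W H' E')
    (hne : H ≠ H') : H ⊓ H' ≤ W := by
  obtain ⟨⟨a, haW, haF⟩, ha1⟩ := ne_bot_iff_exists_ne_one.1 L'.R_ne
  obtain ⟨q, u, hq, hu, huo, -⟩ := exists_prime_pow (x := a) fun e => ha1 (Subtype.ext e)
  have := Fact.mk hq
  have hu1 : u ≠ 1 := fun e => hq.ne_one (by rw [← huo, e, orderOf_one])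
  have huW : u ∈ W := zpowers_le.2 haW hu
  have huF : u ∈ fit H' := zpowers_le.2 haF hu
  refine L.inf_le D L'.blk hne L'.le (L.mem_E huW ?_) hu1 huF
  rw [huo]
  refine hq.coprime_iff_not_dvd.2 fun hd => hne (D.blk_eq_of_mem L.blk L'.blk ?_ huF hu1)
  exact D.blk_mem_fit L.blk hd (L.le huW) ⟨1, by rw [huo, pow_one]⟩

/-- The block of a prime dividing the order of a complement. -/
theorem Lnk.exists_next {W H E : Subgroup G} (L : Lnk W H E) {q : ℕ} (hq : q.Prime)
    (hqE : q ∣ Nat.card E) :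
    ∃ H' E', Lnk W H' E' ∧ q ∣ Nat.card (fit H') := by
  have := Fact.mk hq
  obtain ⟨a, haE, hao, hac⟩ :=
    exists_central_of_nilpotent (D.blk_compl_nilpotent L.blk L.compl) hq hqE
  have ha1 : a ≠ 1 := fun e => hq.ne_one (by rw [← hao, e, orderOf_one])
  obtain ⟨Q, haQ⟩ := exists_sylow_mem (q := q) (u := a) ⟨1, by rw [hao, pow_one]⟩
  set H' := normalizer ((Q : Subgroup G) : Set G)
  have hH' : Blk H' := D.blk_of_mem Q haQ ha1
  have haF' : a ∈ fit H' := mem_fit_of_normal_pgroup Q.2 le_normalizer le_rfl haQ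
  have hW : W ≤ H' := fun w hw => by
    obtain ⟨f, hf, y, hy, rfl, -⟩ := L.decomp hw
    refine D.centralizer_le Q haQ ha1 (mem_centralizer_singleton_iff.2 ?_)
    exact ((L.comm f hf.1 hf.2 a haE).mul_left (hac y hy).symm).eq
  have haF : a ∉ fit H := fun h => ha1 (mem_bot.1 (L.compl.inf ▸ ⟨h, haE⟩))
  have hne : H ≠ H' := fun h => haF (h ▸ haF')
  have hcop : (Nat.card (W ⊓ fit H : Subgroup G)).Coprime (Nat.card (fit H')) := by
    refine Nat.coprime_of_dvd fun p hp hpR hpF => ?_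
    have := Fact.mk hp
    obtain ⟨⟨u, hu⟩, huo⟩ := exists_prime_orderOf_dvd_card' p hpR
    rw [Subgroup.orderOf_mk] at huo
    exact hne (D.blk_eq_of_mem L.blk hH' hu.2
      (D.blk_mem_fit hH' hpF (hW hu.1) ⟨1, by rw [huo, pow_one]⟩)
      fun e => hp.ne_one (by rw [← huo, e, orderOf_one]))
  obtain ⟨E0, hE0⟩ := D.blk_exists_compl hH'
  obtain ⟨E', hE', hRE⟩ := hE0.exists_ge (inf_le_left.trans hW) hcop
  obtain ⟨⟨r, hr⟩, hr1⟩ := ne_bot_iff_exists_ne_one.1 L.R_ne
  obtain ⟨p, u, hp, hur, huo, -⟩ := exists_prime_pow (x := r) fun e => hr1 (Subtype.ext e)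
  have := Fact.mk hp
  have hu : u ∈ W ⊓ fit H := zpowers_le.2 hr hur
  have hu1 : u ≠ 1 := fun e => hp.ne_one (by rw [← huo, e, orderOf_one])
  have huE' : u ∈ E' := hRE hu
  obtain ⟨z, hzE', hzo, hzc⟩ := exists_central_of_nilpotent (D.blk_compl_nilpotent hH' hE') hp
    (huo ▸ orderOf_dvd_natCard _ huE')
  have hz1 : z ≠ 1 := fun e => hp.ne_one (by rw [← hzo, e, orderOf_one])
  have hzH : z ∈ H := D.blk_centralizer_le L.blk hu.2 hu1
    (mem_centralizer_singleton_iff.2 (hzc u huE').eq)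
  have hzF : z ∈ fit H := D.blk_mem_fit L.blk (huo ▸ orderOf_dvd_natCard _ hu.2) hzH
    ⟨1, by rw [hzo, pow_one]⟩
  have hE'H : E' ≤ H := fun b hb => D.blk_centralizer_le L.blk hzF hz1
    (mem_centralizer_singleton_iff.2 (hzc b hb).symm.eq)
  have hD : H ⊓ H' ≤ W := L.inf_le D hH' hne hW haE ha1 haF'
  have hE'W : E' ≤ W := fun b hb => hD ⟨hE'H hb, hE'.le hb⟩
  refine ⟨H', E', ⟨hH', hE', hW, hE'W, fun c hc hcF => ?_, fun c hcF hc => ?_, ?_, ?_⟩, ?_⟩
  · exact D.blk_fixed hH' hE' huE' hu1 hcF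
      (D.commute_two hH' L.blk hne.symm hcF hu.2 (L.le hc) (hE'.le huE'))
  · exact hD ⟨D.blk_centralizer_le L.blk hu.2 hu1
      (mem_centralizer_singleton_iff.2 (hc u huE').eq), fit_le _ hcF⟩
  · exact fun h => hu1 (mem_bot.1 (h ▸ huE'))
  · exact fun h => ha1 (mem_bot.1 (h ▸ (⟨L.E_le haE, haF'⟩ : a ∈ W ⊓ fit H')))
  · exact hao ▸ orderOf_dvd_natCard _ haF'

/-- Some element has a prime power part outside a given Fitting subgroup. -/
theorem exists_part_notMem (H : Subgroup G) {x : G} (hx : x ∉ fit H) :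
    ∃ t ∈ zpowers x, (∃ (q a : ℕ), q.Prime ∧ orderOf t = q ^ a) ∧ t ∉ fit H := by
  by_contra hc
  push Not at hc
  refine hx ?_
  revert hc
  refine CfsgLib.BGroupConj.parts_ind (fun x => (∀ t ∈ zpowers x,
    (∃ (q a : ℕ), q.Prime ∧ orderOf t = q ^ a) → t ∈ fit H) → x ∈ fit H)
    (fun p y hp hy h => h y (mem_zpowers y) ?_) (fun u v _ hu hv ihu ihv h => ?_) x
  · obtain ⟨a, ha⟩ := hy; exact ⟨p, a, hp, ha⟩
  · exact mul_mem (ihu fun t ht hto => h t (zpowers_le.2 hu ht) hto)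
      (ihv fun t ht hto => h t (zpowers_le.2 hv ht) hto)

/-- The first linked block. -/
theorem SData.exists_lnk {H : Subgroup G} (hH : Blk H) {c : G} (hc : c ∈ fit H) (hc1 : c ≠ 1)
    (hnot : ¬ centralizer ({c} : Set G) ≤ fit H) : ∃ W E, Lnk W H E := by
  obtain ⟨g, hg, hgF⟩ := SetLike.not_le_iff_exists.1 hnot
  obtain ⟨t, ht, ⟨q, a, hq, hto⟩, htF⟩ := exists_part_notMem D H hgF
  have := Fact.mk hq
  have htH : t ∈ H := zpowers_le.2 (D.blk_centralizer_le hH hc hc1 hg) ht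
  obtain ⟨E0, hE0⟩ := D.blk_exists_compl hH
  obtain ⟨E, hE, htE⟩ := hE0.exists_ge (U := zpowers t) (zpowers_le.2 htH) (by
    rw [Nat.card_zpowers, hto]
    exact (hq.coprime_iff_not_dvd.2 fun hd => htF (D.blk_mem_fit hH hd htH ⟨a, hto⟩)).pow_left a)
  have ht1 : t ≠ 1 := fun e => htF (e ▸ one_mem _)
  have htE' : t ∈ E := htE (mem_zpowers t)
  have hct : Commute c t := by
    obtain ⟨i, rfl⟩ := mem_zpowers_iff.1 ht
    exact (Commute.symm (mem_centralizer_singleton_iff.1 hg : Commute g c)).zpow_right i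
  set R := fit H ⊓ centralizer (E : Set G) with hR
  have hn : E ≤ normalizer (R : Set G) := fun b hb =>
    CfsgLib.NilpotentMaximal.mem_normalizer_of_conj _ _ fun y hy => by
      rw [mem_centralizer_iff.1 hy.2 b hb, mul_inv_cancel_right]; exact hy
  refine ⟨R ⊔ E, E, hH, hE, sup_le (inf_le_left.trans (fit_le H)) hE.le, le_sup_right,
    fun w hw hwF b hb => ?_, fun w hwF hw => mem_sup_left ⟨hwF, mem_centralizer_iff.2
      fun b hb => (hw b hb).symm.eq⟩, fun h => ht1 (mem_bot.1 (h ▸ htE')), ?_⟩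
  · rw [← SetLike.mem_coe, Subgroup.coe_mul_of_right_le_normalizer_left _ _ hn] at hw
    obtain ⟨r, hr, y, hy, rfl⟩ := hw
    have hy1 : y = 1 := mem_bot.1 (hE.inf ▸ (⟨by simpa using (fit H).mul_mem ((fit H).inv_mem hr.1) hwF, hy⟩ :
      y ∈ fit H ⊓ E))
    simp only [hy1, mul_one]
    exact (mem_centralizer_iff.1 hr.2 b hb : b * r = r * b).symm
  · exact fun h => hc1 (mem_bot.1 (h ▸ (⟨mem_sup_left ⟨hc, mem_centralizer_iff.2 fun b hb =>
      (D.blk_fixed hH hE htE' ht1 hc hct b hb).symm.eq⟩, hc⟩ : c ∈ (R ⊔ E) ⊓ fit H)))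

end CfsgLib.NilpLCS
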