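import Cfsg.Agent.Lib.Struct77.NilpLCS.Blocks
import Cfsg.Agent.Lib.Coprime.Action
import Cfsg.Agent.Lib.Struct77.BGroupConj.Structure
import Cfsg.Agent.Lib.Structure.HughesThompson

/-!
Sylow normalisers: their Fitting subgroups, complements and fixed points.
-/

set_option autoImplicit false

namespace CfsgLib.NilpLCS

open Subgroup
open scoped commutatorElement Pointwise

universe u

variable {G : Type u} [Group G] [Finite G] {k : ℕ} (D : SData G k)

/-- The Fitting subgroup of a subgroup, inside the group. -/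
def fit (H : Subgroup G) : Subgroup G := (Cfsg.fittingSubgroup H).map H.subtype

theorem fit_le (H : Subgroup G) : fit H ≤ H := map_subtype_le _

theorem fit_conj (H : Subgroup G) {g f : G} (hg : g ∈ H) (hf : f ∈ fit H) : g * f * g⁻¹ ∈ fit H := by
  obtain ⟨y, hy, rfl⟩ := hf
  exact ⟨⟨g, hg⟩ * y * ⟨g, hg⟩⁻¹, (Fitting.fitting_normal).conj_mem y hy _, rfl⟩

theorem fit_nilpotent (H : Subgroup G) : Group.IsNilpotent (fit H) :=
  Fitting.isNilpotent_map Fitting.fitting_isNilpotent _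

theorem mem_fit_of_normal_pgroup {q : ℕ} [Fact q.Prime] {H Q : Subgroup G} (hQ : IsPGroup q Q)
    (hQH : Q ≤ H) (hn : H ≤ normalizer (Q : Set G)) : Q ≤ fit H := by
  intro y hy
  have : (Q.subgroupOf H).Normal := normal_subgroupOf_of_le_normalizer hn
  refine ⟨⟨y, hQH hy⟩, ?_, rfl⟩
  exact Fitting.le_fitting (N := Q.subgroupOf H) inferInstance
    (hQ.of_equiv (subgroupOfEquivOfLe hQH).symm).isNilpotent (mem_subgroupOf.2 hy)

/-- A nontrivial element has a power of prime order. -/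
theorem exists_prime_pow {x : G} (hx : x ≠ 1) :
    ∃ (q : ℕ) (u : G), q.Prime ∧ u ∈ zpowers x ∧ orderOf u = q ∧ q ∣ orderOf x := by
  obtain ⟨q, hq, hqd⟩ := Nat.exists_prime_and_dvd (fun h => hx (orderOf_eq_one_iff.1 h) : orderOf x ≠ 1)
  refine ⟨q, x ^ (orderOf x / q), hq, pow_mem (mem_zpowers x) _, ?_, hqd⟩
  exact orderOf_pow_orderOf_div (orderOf_pos x).ne' hqd

/-- The prime power part. -/
theorem exists_part_pow (x : G) {q : ℕ} (hq : q.Prime) :
    ∃ t ∈ zpowers x, orderOf t = q ^ (orderOf x).factorization q :=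
  ⟨x ^ (orderOf x / q ^ (orderOf x).factorization q), pow_mem (mem_zpowers x) _,
    orderOf_pow_orderOf_div (orderOf_pos x).ne' (Nat.ordProj_dvd _ _)⟩

theorem exists_sylow_mem {q : ℕ} [Fact q.Prime] {u : G} (hu : ∃ a, orderOf u = q ^ a) :
    ∃ Q : Sylow q G, u ∈ (Q : Subgroup G) := by
  obtain ⟨a, ha⟩ := hu
  obtain ⟨Q, hQ⟩ := (IsPGroup.of_card (n := a) (by rw [Nat.card_zpowers, ha]) :
    IsPGroup q (zpowers u)).exists_le_sylow
  exact ⟨Q, hQ (mem_zpowers u)⟩

theorem pelement_of_mem {q : ℕ} [Fact q.Prime] {Q : Subgroup G} (hQ : IsPGroup q Q) {u : G}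
    (hu : u ∈ Q) : ∃ a, orderOf u = q ^ a := by
  obtain ⟨a, ha⟩ := IsPGroup.iff_orderOf.1 hQ ⟨u, hu⟩
  exact ⟨a, by rwa [Subgroup.orderOf_mk] at ha⟩

theorem dvd_card_of_mem {q : ℕ} [Fact q.Prime] {Q : Subgroup G} (hQ : IsPGroup q Q) {u : G}
    (hu : u ∈ Q) (hu1 : u ≠ 1) : q ∣ Nat.card G := by
  obtain ⟨a, ha⟩ := pelement_of_mem hQ hu
  refine (dvd_pow_self q fun h0 => hu1 ?_).trans (ha ▸ _root_.orderOf_dvd_natCard u)
  exact orderOf_eq_one_iff.1 (by rw [ha, h0, pow_zero])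

theorem mem_sylow_of_normalizer {q : ℕ} [Fact q.Prime] (Q : Sylow q G) {u : G}
    (hu : u ∈ normalizer ((Q : Subgroup G) : Set G)) (ho : ∃ a, orderOf u = q ^ a) :
    u ∈ (Q : Subgroup G) := by
  obtain ⟨a, ha⟩ := ho
  exact Transfer.isPGroup_mem_of_mem_normalizer Q hu a (by rw [← ha, pow_orderOf_eq_one])

include D

theorem SData.centralizer_le {p : ℕ} [hp : Fact p.Prime] (P : Sylow p G) {u : G}
    (hu : u ∈ (P : Subgroup G)) (hu1 : u ≠ 1) :
    centralizer ({u} : Set G) ≤ normalizer ((P : Subgroup G) : Set G) := fun g hg =>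
  D.sylow_ti P hu hu1 (by rw [mem_centralizer_singleton_iff.1 hg, mul_inv_cancel_right]; exact hu)

/-- A distinguished element commuting with an element of another prime links the Sylow subgroups. -/
theorem SData.link {p q : ℕ} [hp : Fact p.Prime] [hq : Fact q.Prime] (hpq : p ≠ q) (P : Sylow p G)
    (Q : Sylow q G) {v r : G} (hv : v ∈ D.S (P : Subgroup G)) (hr : r ∈ (Q : Subgroup G)) (hr1 : r ≠ 1)
    (hc : Commute v r) :
    (∀ a ∈ (P : Subgroup G), ∀ b ∈ (Q : Subgroup G), a * b = b * a) ∧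
      normalizer ((P : Subgroup G) : Set G) = normalizer ((Q : Subgroup G) : Set G) := by
  have hv1 := hv.2.2
  have hPne : normalizer ((P : Subgroup G) : Set G) ≠ ⊤ :=
    D.normalizer_ne_top P.2 fun h => hv1 (mem_bot.1 (h ▸ hv.2.1))
  have hQne : normalizer ((Q : Subgroup G) : Set G) ≠ ⊤ :=
    D.normalizer_ne_top Q.2 fun h => hr1 (mem_bot.1 (h ▸ hr))
  have hdis : ∀ z, z ∈ (P : Subgroup G) → z ∈ (Q : Subgroup G) → z = 1 := fun z h1 h2 => by
    obtain ⟨a, ha⟩ := pelement_of_mem P.2 h1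
    obtain ⟨b, hb⟩ := pelement_of_mem Q.2 h2
    refine orderOf_eq_one_iff.1 (Nat.eq_one_of_dvd_coprimes
      (Nat.Coprime.pow a b ((Nat.coprime_primes hp.out hq.out).2 hpq)) (dvd_of_eq ha) (dvd_of_eq hb))
  have hvQ : v ∈ normalizer ((Q : Subgroup G) : Set G) :=
    D.centralizer_le Q hr hr1 (mem_centralizer_singleton_iff.2 hc.eq)
  -- a distinguished element centralises the normal Sylow subgroup
  have key : ∀ {s t : ℕ} [Fact s.Prime] [Fact t.Prime] (_ : s ≠ t) (T : Sylow t G) (w : G), w ∈ D.V →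
      (∃ a, orderOf w = s ^ a) → w ∈ normalizer ((T : Subgroup G) : Set G) →
      normalizer ((T : Subgroup G) : Set G) ≠ ⊤ → ∀ b ∈ (T : Subgroup G), w * b = b * w := by
    intro s t hs ht hst T w hwV hwo hwN hTne b hb
    set N := normalizer ((T : Subgroup G) : Set G)
    have h1 : (⟨w, hwN⟩ : N) ∈ Cfsg.pCore s N := D.core N hTne s hs.out w hwN hwV hwo
    have h2 : ⁅w, b⁆ ∈ (T : Subgroup G) := by
      rw [commutatorElement_def]
      exact mul_mem ((mem_normalizer_iff.1 hwN b).1 hb) (inv_mem hb)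
    have h3 : ⁅(⟨w, hwN⟩ : N), ⟨b, le_normalizer hb⟩⁆ ∈ Cfsg.pCore s N := by
      rw [commutatorElement_def, mul_assoc (⟨w, hwN⟩ : N), mul_assoc]
      exact mul_mem h1 ((Fitting.pCore_normal s).conj_mem _ (inv_mem h1) _)
    obtain ⟨i, hi⟩ := pelement_of_mem T.2 h2
    obtain ⟨j, hj⟩ := IsPGroup.iff_orderOf.1 (PCore.pCore_isPGroup (p := s) (G := N)) ⟨_, h3⟩
    rw [Subgroup.orderOf_mk, ← orderOf_injective N.subtype N.subtype_injective, map_commutatorElement] at hj
    refine commutatorElement_eq_one_iff_mul_comm.1 (orderOf_eq_one_iff.1 (Nat.eq_one_of_dvd_coprimes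
      (Nat.Coprime.pow i j ((Nat.coprime_primes ht.out hs.out).2 (Ne.symm hst))) (dvd_of_eq hi)
        (dvd_of_eq hj)))
  have hvcQ : ∀ b ∈ (Q : Subgroup G), v * b = b * v :=
    key hpq Q v hv.1 (pelement_of_mem P.2 hv.2.1) hvQ hQne
  have hQP : (Q : Subgroup G) ≤ normalizer ((P : Subgroup G) : Set G) := fun b hb =>
    D.centralizer_le P hv.2.1 hv1 (mem_centralizer_singleton_iff.2 (hvcQ b hb).symm)
  obtain ⟨y, hy, hyc⟩ := D.exists_center (dvd_card_of_mem Q.2 hr hr1) Q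
  have hyP : ∀ a ∈ (P : Subgroup G), y * a = a * y :=
    key (Ne.symm hpq) P y hy.1 (pelement_of_mem Q.2 hy.2.1) (hQP hy.2.1) hPne
  have hPQ : (P : Subgroup G) ≤ normalizer ((Q : Subgroup G) : Set G) := fun a ha =>
    D.centralizer_le Q hy.2.1 hy.2.2 (mem_centralizer_singleton_iff.2 (hyP a ha).symm)
  have hcomm : ∀ a ∈ (P : Subgroup G), ∀ b ∈ (Q : Subgroup G), a * b = b * a := by
    intro a ha b hb
    refine commutatorElement_eq_one_iff_mul_comm.1 (hdis _ ?_ ?_)
    · rw [commutatorElement_def, mul_assoc a, mul_assoc]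
      exact mul_mem ha ((mem_normalizer_iff.1 (hQP hb) _).1 (inv_mem ha))
    · rw [commutatorElement_def]
      exact mul_mem ((mem_normalizer_iff.1 (hPQ ha) b).1 hb) (inv_mem hb)
  obtain ⟨x, hx, hxc⟩ := D.exists_center (dvd_card_of_mem P.2 hv.2.1 hv1) P
  refine ⟨hcomm, ?_⟩
  -- normalisers agree
  have one : ∀ {s t : ℕ} [Fact s.Prime] [Fact t.Prime] (S : Sylow s G) (T : Sylow t G) (y : G),
      (T : Subgroup G) ≤ normalizer ((S : Subgroup G) : Set G) →
      normalizer ((S : Subgroup G) : Set G) ≠ ⊤ → y ∈ D.V → y ∈ (T : Subgroup G) → y ≠ 1 →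
      normalizer ((S : Subgroup G) : Set G) ≤ normalizer ((T : Subgroup G) : Set G) := by
    intro s t hs ht S T y hTS hSne hyV hyT hy1 g hg
    set N := normalizer ((S : Subgroup G) : Set G)
    have h1 : (⟨y, hTS hyT⟩ : N) ∈ Cfsg.pCore t N :=
      D.core N hSne t ht.out y (hTS hyT) hyV (pelement_of_mem T.2 hyT)
    have hle : Cfsg.pCore t N ≤ ((T.subtype hTS : Sylow t N) : Subgroup N) := PCore.pCore_le_sylow _
    have h2 := hle ((Fitting.pCore_normal t).conj_mem _ h1 ⟨g, hg⟩)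
    exact D.sylow_ti T hyT hy1 (mem_subgroupOf.1 h2)
  exact le_antisymm (one P Q y hQP hPne hy.1 hy.2.1 hy.2.2) (one Q P x hPQ hQne hx.1 hx.2.1 hx.2.2)

/-- The normalisers of the nontrivial Sylow subgroups. -/
def Blk (H : Subgroup G) : Prop :=
  ∃ (p : ℕ) (_ : Fact p.Prime) (P : Sylow p G), (P : Subgroup G) ≠ ⊥ ∧
    H = normalizer ((P : Subgroup G) : Set G)

theorem SData.blk_ne_top {H : Subgroup G} (hH : Blk H) : H ≠ ⊤ := by
  obtain ⟨p, _, P, hP, rfl⟩ := hH
  exact D.normalizer_ne_top P.2 hP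

theorem SData.blk_of_mem {q : ℕ} [Fact q.Prime] (Q : Sylow q G) {u : G} (hu : u ∈ (Q : Subgroup G))
    (hu1 : u ≠ 1) : Blk (normalizer ((Q : Subgroup G) : Set G)) :=
  ⟨q, inferInstance, Q, fun h => hu1 (mem_bot.1 (h ▸ hu)), rfl⟩

/-- Elements of prime power order in the Fitting subgroup of a block. -/
theorem SData.blk_sylow_le {H : Subgroup G} (hH : Blk H) {q : ℕ} [hq : Fact q.Prime]
    (Q : Sylow q G) {f : G} (hf : f ∈ fit H) (hf1 : f ≠ 1) (hfQ : f ∈ (Q : Subgroup G)) :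
    H = normalizer ((Q : Subgroup G) : Set G) ∧ (Q : Subgroup G) ≤ fit H := by
  obtain ⟨p, hp, P, hP, rfl⟩ := hH
  have hPF : (P : Subgroup G) ≤ fit (normalizer ((P : Subgroup G) : Set G)) :=
    mem_fit_of_normal_pgroup P.2 le_normalizer le_rfl
  suffices h : normalizer ((P : Subgroup G) : Set G) = normalizer ((Q : Subgroup G) : Set G) by
    refine ⟨h, ?_⟩
    rw [h]
    exact mem_fit_of_normal_pgroup Q.2 le_normalizer le_rfl
  obtain ⟨a, hfa⟩ := pelement_of_mem Q.2 hfQ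
  by_cases hpq : p = q
  · subst hpq
    have hfP := mem_sylow_of_normalizer P (fit_le _ hf) ⟨a, hfa⟩
    obtain ⟨g, hg⟩ := MulAction.exists_smul_eq G P Q
    have hgn : g ∈ normalizer ((P : Subgroup G) : Set G) := by
      have h1 : g⁻¹ * f * g ∈ (P : Subgroup G) := by
        have h2 : f ∈ ((g • P : Sylow p G) : Subgroup G) := hg.symm ▸ hfQ
        obtain ⟨y, hy, rfl⟩ := h2
        simp [mul_assoc]; exact hy
      have := D.sylow_ti P hfP hf1 (g := g⁻¹) (by simpa using h1)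
      simpa using inv_mem this
    have hQP : Q = P := hg.symm.trans (Sylow.smul_eq_iff_mem_normalizer.2 hgn)
    rw [hQP]
  · obtain ⟨w, hw⟩ : ∃ w, w ∈ (P : Subgroup G) ∧ w ≠ 1 := by
      obtain ⟨⟨w, hw⟩, hw1⟩ := ne_bot_iff_exists_ne_one.1 hP
      exact ⟨w, hw, fun e => hw1 (Subtype.ext e)⟩
    obtain ⟨x, hx, -⟩ := D.exists_center (dvd_card_of_mem P.2 hw.1 hw.2) P
    refine (D.link hpq P Q hx hfQ hf1 ?_).2
    have := fit_nilpotent (normalizer ((P : Subgroup G) : Set G))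
    obtain ⟨b, hb⟩ := pelement_of_mem P.2 hx.2.1
    refine congrArg Subtype.val (CfsgLib.Engel.commute_of_coprime_nilpotent
      (a := (⟨x, hPF hx.2.1⟩ : fit (normalizer ((P : Subgroup G) : Set G)))) (b := ⟨f, hf⟩) ?_).eq
    rw [orderOf_mk, orderOf_mk, hb, hfa]
    exact Nat.Coprime.pow b a ((Nat.coprime_primes hp.out hq.out).2 hpq)

/-- A `q`-element of a block lies in the Fitting subgroup when `q` divides its order. -/
theorem SData.blk_mem_fit {H : Subgroup G} (hH : Blk H) {q : ℕ} [hq : Fact q.Prime]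
    (hqF : q ∣ Nat.card (fit H)) {t : G} (ht : t ∈ H) (hto : ∃ a, orderOf t = q ^ a) : t ∈ fit H := by
  obtain ⟨⟨f, hf⟩, hfo⟩ := exists_prime_orderOf_dvd_card' (G := fit H) q hqF
  rw [orderOf_mk] at hfo
  obtain ⟨Q, hfQ⟩ := exists_sylow_mem (q := q) (u := f) ⟨1, by rw [hfo, pow_one]⟩
  have hf1 : f ≠ 1 := fun e => hq.out.ne_one (by rw [← hfo, e, orderOf_one])
  obtain ⟨rfl, hQF⟩ := (D.blk_sylow_le hH) Q hf hf1 hfQ
  exact hQF (mem_sylow_of_normalizer Q ht hto)

theorem SData.blk_coprime_fit {H : Subgroup G} (hH : Blk H) :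
    (Nat.card (fit H)).Coprime ((fit H).subgroupOf H).index := by
  refine Nat.coprime_of_dvd fun q hq hqF hqi => ?_
  have := Fact.mk hq
  let S : Sylow q H := default
  refine S.not_dvd_index (hqi.trans (index_dvd_of_le fun s hs => ?_))
  obtain ⟨a, ha⟩ := IsPGroup.iff_orderOf.1 S.2 ⟨s, hs⟩
  rw [Subgroup.orderOf_mk] at ha
  exact mem_subgroupOf.2 ((D.blk_mem_fit hH) hqF s.2 ⟨a, by rw [orderOf_coe, ha]⟩)

/-- A conjugate of a Fitting element back in the Fitting subgroup. -/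
theorem SData.blk_ti {H : Subgroup G} (hH : Blk H) {f g : G} (hf : f ∈ fit H)
    (hf1 : f ≠ 1) (hg : g * f * g⁻¹ ∈ fit H) : g ∈ H := by
  obtain ⟨q, u, hq, hu, huo, -⟩ := exists_prime_pow hf1
  have := Fact.mk hq
  have hu1 : u ≠ 1 := fun e => hq.ne_one (by rw [← huo, e, orderOf_one])
  have huF : u ∈ fit H := zpowers_le.2 hf hu
  have hguF : g * u * g⁻¹ ∈ fit H := by
    obtain ⟨i, rfl⟩ := mem_zpowers_iff.1 hu
    rw [← conj_zpow]
    exact zpow_mem hg i
  obtain ⟨Q, huQ⟩ := exists_sylow_mem (q := q) (u := u) ⟨1, by rw [huo, pow_one]⟩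
  obtain ⟨rfl, -⟩ := (D.blk_sylow_le hH) Q huF hu1 huQ
  exact D.sylow_ti Q huQ hu1 (mem_sylow_of_normalizer Q (fit_le _ hguF)
    ⟨1, by rw [pow_one]; exact (MulEquiv.orderOf_eq (MulAut.conj g) u).trans huo⟩)

theorem SData.blk_centralizer_le {H : Subgroup G} (hH : Blk H) {f : G}
    (hf : f ∈ fit H) (hf1 : f ≠ 1) : centralizer ({f} : Set G) ≤ H := fun g hg =>
  (D.blk_ti hH) hf hf1 (by rw [mem_centralizer_singleton_iff.1 hg, mul_inv_cancel_right]; exact hf)

theorem SData.blk_fit_ne_bot {H : Subgroup G} (hH : Blk H) : fit H ≠ ⊥ := by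
  obtain ⟨p, hp, P, hP, rfl⟩ := hH
  exact fun h => hP (eq_bot_iff.2 (h ▸ mem_fit_of_normal_pgroup P.2 le_normalizer le_rfl))

/-- Two blocks sharing a Fitting element coincide. -/
theorem SData.blk_eq_of_mem {H H' : Subgroup G} (hH : Blk H) (hH' : Blk H') {f : G}
    (hf : f ∈ fit H) (hf' : f ∈ fit H') (hf1 : f ≠ 1) : H = H' := by
  obtain ⟨q, u, hq, hu, huo, -⟩ := exists_prime_pow hf1
  have := Fact.mk hq
  have hu1 : u ≠ 1 := fun e => hq.ne_one (by rw [← huo, e, orderOf_one])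
  obtain ⟨Q, huQ⟩ := exists_sylow_mem (q := q) (u := u) ⟨1, by rw [huo, pow_one]⟩
  rw [((D.blk_sylow_le hH) Q (zpowers_le.2 hf hu) hu1 huQ).1, ((D.blk_sylow_le hH') Q (zpowers_le.2 hf' hu) hu1 huQ).1]

theorem SData.blk_fit_ne {H : Subgroup G} (hH : Blk H) : fit H ≠ H := by
  intro heq
  have hnil : Group.IsNilpotent H := heq ▸ fit_nilpotent H
  obtain ⟨p, hp, P, hP, rfl⟩ := hH
  have hc : Transfer.FrobeniusCond p G := Transfer.frobeniusCond_of_controls P fun x hx g hg => by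
    by_cases hx1 : x = 1
    · exact ⟨1, one_mem _, by rw [hx1]; simp⟩
    set H := normalizer ((P : Subgroup G) : Set G) with hH
    have hgH : g ∈ H := D.sylow_ti P hx hx1 hg
    let S : Sylow p H := P.subtype le_normalizer
    have : (Cfsg.pResidual p H).Normal := Transfer.pResidual_normal
    have h1 : (⟨g, hgH⟩ : H) ∈ (S : Subgroup H) ⊔ Cfsg.pResidual p H := by
      rw [Transfer.sylow_sup_pResidual]; trivial
    rw [← SetLike.mem_coe, mul_normal] at h1
    obtain ⟨u, hu, c, hc, e⟩ := h1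
    refine ⟨(u : G), mem_subgroupOf.1 hu, ?_⟩
    obtain ⟨b, hb⟩ := pelement_of_mem P.2 hx
    have hcx : (c : G) * x = x * c := by
      have hle : Cfsg.pResidual p H ≤ centralizer ({(⟨x, le_normalizer hx⟩ : H)} : Set H) := by
        rw [Transfer.pResidual_le_iff]
        intro y hy
        rw [mem_centralizer_singleton_iff]
        exact (CfsgLib.Engel.commute_of_coprime_nilpotent (a := y) (b := (⟨x, le_normalizer hx⟩ : H))
          (by rw [show orderOf (⟨x, le_normalizer hx⟩ : H) = p ^ b from (Subgroup.orderOf_mk _ _).trans hb]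
              exact hy.pow_right b)).eq
      exact congrArg Subtype.val (mem_centralizer_singleton_iff.1 (hle hc))
    have e' : g = (u : G) * c := (congrArg Subtype.val e).symm
    rw [e', show (u : G) * c * x * ((u : G) * c)⁻¹ = u * ((c : G) * x * (c : G)⁻¹) * (u : G)⁻¹ by group,
      hcx, mul_inv_cancel_right]
  obtain ⟨⟨w, hw⟩, hw1⟩ := ne_bot_iff_exists_ne_one.1 hP
  obtain ⟨T, hT, a, ha, hac, t, ht, hne⟩ :=
    D.exists_local (dvd_card_of_mem P.2 hw fun e => hw1 (Subtype.ext e))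
  exact hne (mem_centralizer_iff.1 (hc T hT a ha hac) t ht)

/-- The quotient by the Fitting subgroup is nilpotent. -/
theorem SData.quotient_fitting_nilpotent {H : Subgroup G} (hH : H ≠ ⊤)
    [(Cfsg.fittingSubgroup H).Normal] : Group.IsNilpotent (H ⧸ Cfsg.fittingSubgroup H) := by
  have hq : ∀ (q : ℕ) [Fact q.Prime], Cfsg.HasNormalPComplement q (H ⧸ Cfsg.fittingSubgroup H) := by
    intro q hqf
    refine complement_mod_fitting q (complement_mod_core fun T hT a ha hac t ht => ⟨k, ?_⟩)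
    have ha' : (a : G) ∈ normalizer (T.map H.subtype : Set G) :=
      CfsgLib.NilpotentMaximal.mem_normalizer_of_conj _ _ fun y hy => by
        obtain ⟨s, hs, rfl⟩ := hy
        exact ⟨a * s * a⁻¹, (mem_normalizer_iff.1 ha s).1 hs, rfl⟩
    have hV := D.iter q (T.map H.subtype) hqf.out (hT.map _) (a : G) ha' (by rwa [orderOf_coe]) t
      ⟨t, ht, rfl⟩ k le_rfl
    rw [show (t : G) = H.subtype t from rfl, show (a : G) = H.subtype a from rfl, ← itc_map] at hV
    obtain ⟨e, he⟩ := IsPGroup.iff_orderOf.1 hT ⟨_, itc_mem ht ha k⟩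
    rw [Subgroup.orderOf_mk] at he
    exact D.core H hH q hqf.out _ (itc t a k).2 hV ⟨e, by rw [orderOf_coe]; exact he⟩
  refine ((Group.isNilpotent_of_finite_tfae (G := H ⧸ Cfsg.fittingSubgroup H)).out 0 3).mpr
    fun q hqf P => ?_
  have := hqf
  have hle : (P : Subgroup (H ⧸ Cfsg.fittingSubgroup H)) ≤ Cfsg.pCore q _ := fun x hx =>
    mem_pCore_of_complements hqf.out (fun r _ _ => hq r) (pelement_of_mem P.2 hx)
  rw [le_antisymm hle (PCore.pCore_le_sylow P)]
  exact Fitting.pCore_normal q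

/-- A complement of the Fitting subgroup in a block. -/
structure IsCompl (H E : Subgroup G) : Prop where
  le : E ≤ H
  inf : fit H ⊓ E = ⊥
  sup : fit H ⊔ E = H
  coprime : (Nat.card (fit H)).Coprime (Nat.card E)

theorem SData.blk_exists_compl {H : Subgroup G} (hH : Blk H) :
    ∃ E, IsCompl H E := by
  have : ((fit H).subgroupOf H).Normal := normal_subgroupOf_of_le_normalizer fun h hh =>
    CfsgLib.NilpotentMaximal.mem_normalizer_of_conj _ _ fun y hy => fit_conj H hh hy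
  have hcard : Nat.card ((fit H).subgroupOf H) = Nat.card (fit H) :=
    Nat.card_congr (subgroupOfEquivOfLe (fit_le H)).toEquiv
  obtain ⟨K, hK⟩ := exists_right_complement'_of_coprime (N := (fit H).subgroupOf H)
    (by rw [hcard]; exact (D.blk_coprime_fit hH))
  refine ⟨K.map H.subtype, map_subtype_le _, ?_, ?_, ?_⟩
  · have h := congrArg (Subgroup.map H.subtype) (disjoint_iff.1 hK.disjoint)
    rwa [Subgroup.map_inf _ _ _ H.subtype_injective, subgroupOf_map_subtype, inf_eq_left.2 (fit_le H),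
      Subgroup.map_bot] at h
  · have h := congrArg (Subgroup.map H.subtype) hK.sup_eq_top
    rwa [Subgroup.map_sup, subgroupOf_map_subtype, inf_eq_left.2 (fit_le H),
      ← MonoidHom.range_eq_map, range_subtype] at h
  · rw [card_map_of_injective H.subtype_injective, ← hK.symm.index_eq_card]
    exact (D.blk_coprime_fit hH)

omit D in
theorem IsCompl.card_eq {H E : Subgroup G} (h : IsCompl H E) :
    Nat.card H = Nat.card (fit H) * Nat.card E := by
  have hn : fit H ≤ normalizer (fit H : Set G) := le_normalizer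
  have hE : E ≤ normalizer (fit H : Set G) := fun e he =>
    CfsgLib.NilpotentMaximal.mem_normalizer_of_conj _ _ fun y hy => fit_conj H (h.le he) hy
  have h1 := CfsgLib.Coprime.card_sup_of_disjoint hE h.inf
  rw [sup_comm, h.sup] at h1
  rw [h1, mul_comm]

theorem SData.blk_compl_nilpotent {H E : Subgroup G} (hH : Blk H) (hE : IsCompl H E) :
    Group.IsNilpotent E := by
  have : (Cfsg.fittingSubgroup H).Normal := Fitting.fitting_normal
  have := D.quotient_fitting_nilpotent (D.blk_ne_top hH)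
  refine CfsgLib.HughesThompson.isNilpotent_of_injective_hom
    ((QuotientGroup.mk' (Cfsg.fittingSubgroup H)).comp (inclusion hE.le)) ?_
  rw [← MonoidHom.ker_eq_bot_iff, eq_bot_iff]
  intro e he
  have h1 : inclusion hE.le e ∈ Cfsg.fittingSubgroup H := (QuotientGroup.eq_one_iff _).1 he
  have h2 : (e : G) ∈ fit H ⊓ E := ⟨⟨_, h1, rfl⟩, e.2⟩
  rw [hE.inf, mem_bot] at h2
  exact mem_bot.2 (Subtype.ext h2)

/-- Fixed points of one element of the complement. -/
theorem SData.blk_commute_step {H E : Subgroup G} (hH : Blk H) (hE : IsCompl H E)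
    {e b : G} (he : e ∈ E) (he1 : e ≠ 1) (hb : b ∈ E) (heb : Commute e b) {c : G} (hc : c ∈ fit H)
    (hcp : ∃ (q : ℕ) (a : ℕ), q.Prime ∧ orderOf c = q ^ a) (hce : Commute c e) : Commute c b := by
  obtain ⟨q, a, hq, hca⟩ := hcp
  have := Fact.mk hq
  by_cases hc1 : c = 1
  · rw [hc1]; exact Commute.one_left b
  obtain ⟨Q, hcQ⟩ := exists_sylow_mem (q := q) (u := c) ⟨a, hca⟩
  obtain ⟨hHQ, hQF⟩ := (D.blk_sylow_le hH) Q hc hc1 hcQ
  obtain ⟨s, e', hs, he'e, he'o, -⟩ := exists_prime_pow he1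
  have := Fact.mk hs
  have he'E : e' ∈ E := zpowers_le.2 he he'e
  have he'1 : e' ≠ 1 := fun h => hs.ne_one (by rw [← he'o, h, orderOf_one])
  have hqd : q ∣ Nat.card (fit H) := by
    refine (dvd_pow_self q fun h0 => hc1 ?_).trans (hca ▸ orderOf_dvd_natCard _ hc)
    exact orderOf_eq_one_iff.1 (by rw [hca, h0, pow_zero])
  have hcop : ∀ y ∈ E, (orderOf y).Coprime q := fun y hy =>
    (hE.coprime.coprime_dvd_left hqd).symm.coprime_dvd_left (orderOf_dvd_natCard E hy)
  set C : Subgroup G := (Q : Subgroup G) ⊓ centralizer ({e'} : Set G) with hC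
  have hce' : Commute c e' := by
    obtain ⟨i, rfl⟩ := mem_zpowers_iff.1 he'e
    exact hce.zpow_right i
  have hbe' : Commute b e' := by
    obtain ⟨i, rfl⟩ := mem_zpowers_iff.1 he'e
    exact heb.symm.zpow_right i
  have hbN : b ∈ normalizer (C : Set G) :=
    CfsgLib.NilpotentMaximal.mem_normalizer_of_conj _ _ fun y hy => by
      refine ⟨(mem_normalizer_iff.1 (hHQ ▸ hE.le hb) y).1 hy.1, mem_centralizer_singleton_iff.2 ?_⟩
      have hy' : Commute y e' := mem_centralizer_singleton_iff.1 hy.2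
      exact ((hbe'.mul_left hy').mul_left hbe'.inv_left).eq
  have hCp : IsPGroup q C := Q.2.to_le inf_le_left
  refine commute_of_itc hCp hbN (hcop b hb) k c ⟨hcQ, mem_centralizer_singleton_iff.2 hce'.eq⟩ ?_
  by_contra hne
  have hmem := itc_mem (T := C) ⟨hcQ, mem_centralizer_singleton_iff.2 hce'.eq⟩ hbN k
  have hV := D.iter q C hq hCp b hbN (hcop b hb) c ⟨hcQ, mem_centralizer_singleton_iff.2 hce'.eq⟩ k le_rfl
  obtain ⟨S, he'S⟩ := exists_sylow_mem (q := s) (u := e') ⟨1, by rw [he'o, pow_one]⟩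
  have hqs : q ≠ s := fun h => by
    have h1 := hcop e' he'E
    rw [he'o, ← h, Nat.coprime_self] at h1
    exact hq.ne_one h1
  obtain ⟨-, hN⟩ := D.link hqs Q S ⟨hV, hmem.1, hne⟩ he'S he'1 (mem_centralizer_singleton_iff.1 hmem.2)
  have hSF : (S : Subgroup G) ≤ fit H := by
    rw [hHQ, hN]; exact mem_fit_of_normal_pgroup S.2 le_normalizer le_rfl
  exact he'1 (mem_bot.1 (hE.inf ▸ ⟨hSF he'S, he'E⟩))

/-- All nontrivial elements of the complement have the same fixed points. -/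
theorem SData.blk_fixed {H E : Subgroup G} (hH : Blk H) (hE : IsCompl H E)
    {e : G} (he : e ∈ E) (he1 : e ≠ 1) {c : G} (hc : c ∈ fit H) (hce : Commute c e) :
    ∀ b ∈ E, Commute c b := by
  intro b hb
  have := (D.blk_compl_nilpotent hH) hE
  have : Nontrivial E := ⟨⟨⟨e, he⟩, 1, fun h => he1 (congrArg Subtype.val h)⟩⟩
  obtain ⟨⟨z, hzc⟩, hz1⟩ := ne_bot_iff_exists_ne_one.1 (Group.IsNilpotent.center_ne_bot E)
  have hz1' : (z : G) ≠ 1 := fun h => hz1 (Subtype.ext (Subtype.ext h))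
  have hzb : ∀ y ∈ E, Commute (z : G) y := fun y hy =>
    (congrArg Subtype.val (mem_center_iff.1 hzc ⟨y, hy⟩) : y * (z : G) = z * y).symm
  have hgen : ∀ x, x ∈ fit H → Commute x e → Commute x b := by
    refine CfsgLib.BGroupConj.parts_ind (fun x => x ∈ fit H → Commute x e → Commute x b)
      (fun q x hq hx hxF hxe => ?_) fun x y _ hx hy ihx ihy hF he' => ?_
    · obtain ⟨a, ha⟩ := hx
      have h1 := (D.blk_commute_step hH) hE he he1 z.2 (hzb e he).symm hxF ⟨q, a, hq, ha⟩ hxe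
      exact (D.blk_commute_step hH) hE z.2 hz1' hb (hzb b hb) hxF ⟨q, a, hq, ha⟩ h1
    · have hpow : ∀ w ∈ zpowers (x * y), w ∈ fit H ∧ Commute w e := fun w hw => by
        refine ⟨zpowers_le.2 hF hw, ?_⟩
        obtain ⟨i, rfl⟩ := mem_zpowers_iff.1 hw
        exact he'.zpow_left i
      exact (ihx (hpow x hx).1 (hpow x hx).2).mul_left (ihy (hpow y hy).1 (hpow y hy).2)
  exact hgen c hc hce

end CfsgLib.NilpLCS
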