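import Cfsg.Agent.Lib.Struct77.NilpLCS.Counting

/-!
A criterion for the nilpotency of a lower central term.
-/

set_option autoImplicit false

namespace CfsgLib.NilpLCS

open Subgroup

universe u

theorem solvable_and_coreProp {k : ℕ} (n : ℕ) : ∀ {G : Type u} [Group G] [Finite G],
    Nat.card G = n → ∀ S : Sys G k, Group.IsSolvable G ∧ CoreProp S := by
  induction n using Nat.strong_induction_on with
  | _ n ih =>
    intro G _ _ hn S
    have ih' : ∀ H : Subgroup G, H ≠ ⊤ → Group.IsSolvable H ∧ CoreProp (S.restrict H) := by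
      intro H hH
      refine ih (Nat.card H) (hn ▸ lt_of_le_of_ne (Nat.le_of_dvd Nat.card_pos
        (card_subgroup_dvd_card H)) fun h => hH (eq_top_of_card_eq H h)) rfl _
    have hsol : Group.IsSolvable G := by
      by_contra hns
      obtain ⟨Q, _, _, ⟨D⟩⟩ := exists_sdata S hns ih'
      exact D.false
    exact ⟨hsol, coreProp_solvable S fun H hH => (ih' H hH).2⟩

/-- The lower central term is nilpotent iff the product order condition holds on its values. -/
theorem nilpotent_lcs_iff {G : Type u} [Group G] [Finite G] (k : ℕ) :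
    Group.IsNilpotent ↥((⊤ : Subgroup G).lowerCentralSeries k) ↔
      ∀ x y : G, IsVal k x → IsVal k y → (orderOf x).Coprime (orderOf y) →
        (∀ r : ℕ, r.Prime → r ∣ orderOf x * orderOf y → r ∣ orderOf (x * y)) ∨
          orderOf x * orderOf y ≤ orderOf (x * y) := by
  refine ⟨fun h x y hx hy hc => Or.inl (cond_of_nilpotent k h hx hy hc), fun h => ?_⟩
  let S := sysOfCond k h
  have hS := solvable_and_coreProp (Nat.card G) rfl S
  exact Fitting.isNilpotent_of_le Fitting.fitting_isNilpotent
    (lcs_le_fitting S (fun x hx => hx) hS.2)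

end CfsgLib.NilpLCS
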