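import Cfsg.Agent.Lib.Struct77.NilpLCS.Solvable
import Cfsg.Agent.Lib.Structure.NilpotentMaximal

/-!
A minimal non-solvable group with the hypothesis gives a simple group with distinguished elements
lying in the cores of all proper subgroups.
-/

set_option autoImplicit false

namespace CfsgLib.NilpLCS

open Subgroup
open scoped commutatorElement

universe u

/-- A finite simple group with distinguished elements of prime power order. -/
structure SData (G : Type u) [Group G] (k : ℕ) where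
  V : Set G
  solv : ∀ H : Subgroup G, H ≠ ⊤ → Group.IsSolvable H
  simple : IsSimpleGroup G
  nc : ¬ IsMulCommutative G
  core : ∀ H : Subgroup G, H ≠ ⊤ → ∀ p : ℕ, p.Prime → ∀ v, ∀ hv : v ∈ H, v ∈ V →
    (∃ a, orderOf v = p ^ a) → (⟨v, hv⟩ : H) ∈ Cfsg.pCore p H
  conj : ∀ v ∈ V, ∀ g : G, g * v * g⁻¹ ∈ V
  comm : ∀ (p : ℕ) (T : Subgroup G), p.Prime → IsPGroup p T → ∀ v ∈ V, v ∈ T → ∀ t ∈ T, ⁅v, t⁆ ∈ V
  iter : ∀ (p : ℕ) (T : Subgroup G), p.Prime → IsPGroup p T → ∀ a ∈ normalizer (T : Set G),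
    (orderOf a).Coprime p → ∀ t ∈ T, ∀ j, k ≤ j → itc t a j ∈ V

variable {G : Type u} [Group G] [Finite G] {k : ℕ}

/-- A preimage of order prime to `p`. -/
theorem exists_coprime_lift {p : ℕ} [hp : Fact p.Prime] {H : Type*} [Group H] (f : G →* H) {g : G}
    (hc : (orderOf (f g)).Coprime p) :
    ∃ a ∈ zpowers g, f a = f g ∧ (orderOf a).Coprime p := by
  set o := orderOf g with ho
  set A := p ^ o.factorization p with hA
  have ho0 : o ≠ 0 := (orderOf_pos g).ne'
  obtain ⟨m, hm⟩ := exists_pow_eq_self_of_coprime (x := f g) (n := A)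
    (Nat.Coprime.pow_left _ (Nat.coprime_comm.1 hc))
  refine ⟨(g ^ A) ^ m, pow_mem (pow_mem (mem_zpowers g) _) _, by rw [map_pow, map_pow, hm], ?_⟩
  refine Nat.Coprime.coprime_dvd_left (orderOf_dvd_of_pow_eq_one (n := o / A) ?_)
    (Nat.coprime_comm.1 (Nat.coprime_ordCompl hp.out ho0))
  rw [← pow_mul, ← pow_mul, mul_comm m (o / A), ← mul_assoc, pow_mul,
    Nat.mul_div_cancel' (Nat.ordProj_dvd o p), ho, pow_orderOf_eq_one, one_pow]

/-- Lifting a `p`-subgroup through a central extension. -/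
theorem exists_central_lift (N : Subgroup G) [N.Normal] (hN : N ≤ center G) {p : ℕ} [hp : Fact p.Prime]
    {Q : Subgroup (G ⧸ N)} (hQ : IsPGroup p Q) :
    ∃ T : Subgroup G, IsPGroup p T ∧ T.map (QuotientGroup.mk' N) = Q ∧
      (∀ x, QuotientGroup.mk' N x ∈ Q → (∃ e, orderOf x = p ^ e) → x ∈ T) ∧
      ∀ a, QuotientGroup.mk' N a ∈ normalizer (Q : Set (G ⧸ N)) → a ∈ normalizer (T : Set G) := by
  set π := QuotientGroup.mk' N with hπ
  set M := Q.comap π with hM
  let φ : M →* Q := π.subgroupComap Q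
  have hφs : Function.Surjective φ := MonoidHom.subgroupComap_surjective_of_surjective π Q
    (QuotientGroup.mk'_surjective N)
  have : Group.IsNilpotent Q := hQ.isNilpotent
  have hMn : Group.IsNilpotent M := Subgroup.isNilpotent_of_ker_le_center φ (fun x hx => by
    rw [mem_center_iff]
    intro y
    have hxN : (x : G) ∈ N :=
      (QuotientGroup.eq_one_iff (x : G)).1 (congrArg Subtype.val (MonoidHom.mem_ker.1 hx))
    exact Subtype.ext (mem_center_iff.1 (hN hxN) y))
  let S : Sylow p M := default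
  have hSn : (S : Subgroup M).Normal := inferInstance
  set T := (S : Subgroup M).map M.subtype with hT
  have hTp : IsPGroup p T := S.isPGroup'.map _
  have hmem : ∀ x, π x ∈ Q → (∃ e, orderOf x = p ^ e) → x ∈ T := by
    intro x hx ⟨e, he⟩
    have hpg : IsPGroup p (zpowers (⟨x, hx⟩ : M)) := IsPGroup.of_card (n := e) (by
      rw [Nat.card_zpowers]; exact (Subgroup.orderOf_mk x hx).trans he)
    obtain ⟨R, hR⟩ := hpg.exists_le_sylow
    have := Sylow.unique_of_normal S hSn
    have hRS : R = S := Subsingleton.elim _ _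
    exact ⟨⟨x, hx⟩, hRS ▸ hR (mem_zpowers _), rfl⟩
  refine ⟨T, hTp, ?_, hmem, fun a ha => ?_⟩
  · refine le_antisymm ?_ ?_
    · rintro _ ⟨_, ⟨y, -, rfl⟩, rfl⟩
      exact y.2
    · intro q hq
      have h1 : (S : Subgroup M).map φ = ⊤ :=
        ((S.mapSurjective hφs).is_maximal' (hQ.to_subgroup ⊤) le_top).symm
      obtain ⟨y, hy, hyq⟩ := (h1.symm ▸ mem_top (⟨q, hq⟩ : Q) : (⟨q, hq⟩ : Q) ∈ (S : Subgroup M).map φ)
      exact ⟨(y : G), ⟨y, hy, rfl⟩, congrArg Subtype.val hyq⟩
  · refine CfsgLib.NilpotentMaximal.mem_normalizer_of_conj _ _ fun x hx => hmem _ ?_ ?_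
    · obtain ⟨y, -, rfl⟩ := hx
      have h1 := (mem_normalizer_iff.1 ha (π (y : G))).1 y.2
      simpa [map_mul, map_inv] using h1
    · obtain ⟨e, he⟩ := IsPGroup.iff_orderOf.1 hTp ⟨x, hx⟩
      rw [Subgroup.orderOf_mk] at he
      exact ⟨e, (MulEquiv.orderOf_eq (MulAut.conj a) x).trans he⟩

/-- From a minimal non-solvable system to the simple quotient. -/
theorem exists_sdata (S : Sys G k) (hns : ¬ Group.IsSolvable G)
    (ih : ∀ H : Subgroup G, H ≠ ⊤ → Group.IsSolvable H ∧ CoreProp (S.restrict H)) :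
    ∃ (Q : Type u) (_ : Group Q) (_ : Finite Q), Nonempty (SData Q k) := by
  classical
  -- the largest proper normal subgroup
  have htop : (⊤ : Subgroup G) ≠ ⊥ := fun h => hns (by
    have : Subsingleton G := subsingleton_of_forall_eq 1 fun x => mem_bot.1 (h ▸ mem_top x)
    infer_instance)
  obtain ⟨N, ⟨hNn, hNt⟩, hNmax⟩ := Set.exists_max_image {N : Subgroup G | N.Normal ∧ N ≠ ⊤}
    (fun N => Nat.card N) (Set.toFinite _) ⟨⊥, inferInstance, htop.symm⟩
  have hNsol := (ih N hNt).1
  have hext : ∀ (K : Subgroup G) [K.Normal], Group.IsSolvable K → Group.IsSolvable (G ⧸ K) →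
      Group.IsSolvable G := fun K _ h1 h2 =>
    Group.isSolvable_of_ker_le_range K.subtype (QuotientGroup.mk' K)
      (by rw [QuotientGroup.ker_mk', range_subtype])
  have hnt : ∀ W : Subgroup G, W.Normal → ¬ W ≤ N → W = ⊤ := by
    intro W hW hWN
    by_contra hWt
    have hsup : W ⊔ N = ⊤ := by
      by_contra hne
      have h1 := hNmax (W ⊔ N) ⟨inferInstance, hne⟩
      exact hWN ((eq_of_le_of_card_ge (le_sup_right : N ≤ W ⊔ N) h1) ▸ le_sup_left)
    have := (ih W hWt).1
    refine hns (hext W this (Group.isSolvable_of_surjective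
      (f := (QuotientGroup.mk' W).comp N.subtype) ?_))
    intro y
    obtain ⟨g, rfl⟩ := QuotientGroup.mk'_surjective W y
    obtain ⟨w, hw, n, hn, rfl⟩ : ∃ w ∈ W, ∃ n ∈ N, g = w * n := by
      have hg : g ∈ W ⊔ N := hsup ▸ mem_top g
      rw [← SetLike.mem_coe, normal_mul] at hg
      obtain ⟨w, hw, n, hn, rfl⟩ := hg
      exact ⟨w, hw, n, hn, rfl⟩
    refine ⟨⟨n, hn⟩, ?_⟩
    show QuotientGroup.mk' W n = QuotientGroup.mk' W (w * n)
    rw [map_mul, show QuotientGroup.mk' W w = 1 from (QuotientGroup.eq_one_iff w).2 hw, one_mul]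
  have hperf : commutator G = ⊤ := by
    by_contra hne
    exact hns (hext (commutator G) (ih _ hne).1 (inferInstanceAs (Group.IsSolvable (Abelianization G))))
  -- values outside `N`
  have hval : ∀ (q : ℕ) [Fact q.Prime], q ∣ N.index →
      ∃ v ∈ S.V, (∃ a, orderOf v = q ^ a) ∧ v ∉ N := by
    intro q hq hqd
    by_contra hcon
    push Not at hcon
    have hcore : ∀ v ∈ S.V, (∃ a, orderOf v = q ^ a) → v ∈ Cfsg.pCore q G := fun v hv hvo => by
      have h1 := mem_pCore_sub S (ih N hNt).2 hq.out hv (hcon v hv hvo) hvo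
      have h3 : v ∈ (Cfsg.pCore q N).map N.subtype := ⟨_, h1, rfl⟩
      rw [PCore.map_pCore_subtype_of_normal] at h3
      exact h3.2
    have hc := complement_mod_core (G := G) (q := q) fun T hT a ha _ t ht =>
      ⟨k, hcore _ (S.iter t a k le_rfl) (by
        obtain ⟨n, hn⟩ := IsPGroup.iff_orderOf.1 hT ⟨_, itc_mem ht ha k⟩
        exact ⟨n, by rwa [Subgroup.orderOf_mk] at hn⟩)⟩
    set R := Cfsg.pResidual q (G ⧸ Cfsg.pCore q G) with hR
    have hRn : R.Normal := Transfer.pResidual_normal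
    have hRc : ¬ q ∣ Nat.card R := Transfer.hasNormalPComplement_iff.1 hc
    have hRt : R = ⊤ := by
      by_contra hne
      let φ : G →* (G ⧸ Cfsg.pCore q G) ⧸ R :=
        (QuotientGroup.mk' R).comp (QuotientGroup.mk' (Cfsg.pCore q G))
      have hφ : Function.Surjective φ :=
        (QuotientGroup.mk'_surjective R).comp (QuotientGroup.mk'_surjective _)
      have hqg := Transfer.isPGroup_quotient_of_pResidual_le R (le_rfl : R ≤ R)
      have hnilq := hqg.isNilpotent
      have := @IsNilpotent.to_isSolvable _ _ hnilq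
      have : Nontrivial ((G ⧸ Cfsg.pCore q G) ⧸ R) := QuotientGroup.nontrivial_iff.2 hne
      have hlt := Group.IsSolvable.commutator_lt_top_of_nontrivial ((G ⧸ Cfsg.pCore q G) ⧸ R)
      refine hlt.ne ?_
      rw [← map_top_of_surjective φ hφ, ← hperf, _root_.commutator_def, _root_.commutator_def, map_commutator,
        map_top_of_surjective φ hφ]
    rw [hRt, card_top, ← index_eq_card] at hRc
    have hOle : Cfsg.pCore q G ≤ N := by
      by_contra hle
      have htop' := hnt _ inferInstance hle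
      exact hns (by
        have h1 := (PCore.pCore_isPGroup (p := q) (G := G)).isNilpotent
        have hnil : Group.IsNilpotent (⊤ : Subgroup G) := htop' ▸ h1
        have := @IsNilpotent.to_isSolvable _ _ hnil
        exact Group.isSolvable_of_surjective (f := (topEquiv : (⊤ : Subgroup G) ≃* G).toMonoidHom)
          (topEquiv : (⊤ : Subgroup G) ≃* G).surjective)
    exact hRc (hqd.trans (index_dvd_of_le hOle))
  -- `N` is central
  have hFN : ∀ r : ℕ, r.Prime → ∀ x ∈ (Cfsg.pCore r N).map N.subtype, x ∈ center G := by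
    intro r hr x hx
    have := Fact.mk hr
    obtain ⟨q, hq, hqr, hqd⟩ : ∃ q, q.Prime ∧ q ≠ r ∧ q ∣ N.index := by
      by_contra hcon
      push Not at hcon
      refine hns (hext N hNsol ?_)
      have hpg : IsPGroup r (G ⧸ N) := IsPGroup.of_card (n := (Nat.card (G ⧸ N)).primeFactorsList.length)
        (Nat.eq_prime_pow_of_unique_prime_dvd Nat.card_pos.ne' fun {d} hd hdvd => by
          by_contra hne
          exact hcon d hd hne (by rwa [index_eq_card]))
      exact @IsNilpotent.to_isSolvable _ _ hpg.isNilpotent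
    have := Fact.mk hq
    obtain ⟨v, hv, ⟨a, hva⟩, hvN⟩ := hval q hqd
    set K := (Cfsg.pCore r N).map N.subtype with hK
    have hKn : K.Normal := by
      have : (Cfsg.pCore r N).Characteristic := Fitting.pCore_characteristic r
      exact ConjAct.normal_of_characteristic_of_normal
    have hvc : v ∈ centralizer (K : Set G) := mem_centralizer_iff.2 fun y hy =>
      ((commute_normal S hv hKn (by
        obtain ⟨i, hi⟩ := ((PCore.pCore_isPGroup (p := r) (G := N)).map N.subtype).exists_card_eq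
        rw [hva, hi]
        exact Nat.Coprime.pow a i ((Nat.coprime_primes hq hr).2 hqr))) y hy).eq.symm
    have hC : centralizer (K : Set G) = ⊤ := hnt _ inferInstance fun hle => hvN (hle hvc)
    rw [mem_center_iff]
    exact fun g => ((mem_centralizer_iff.1 (hC ▸ mem_top g : g ∈ centralizer (K : Set G))) x hx).symm
  have hNc : N ≤ center G := by
    have hFc : ∀ y ∈ Cfsg.fittingSubgroup N, (y : G) ∈ center G := by
      have hle : Cfsg.fittingSubgroup N ≤ (center G).comap N.subtype := by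
        rw [Fitting.fitting_eq_iSup_pCore]
        exact iSup_le fun r y hy => hFN r (Nat.prime_of_mem_primeFactors r.2) _ ⟨y, hy, rfl⟩
      exact fun y hy => hle hy
    intro x hx
    have h1 : (⟨x, hx⟩ : N) ∈ centralizer (Cfsg.fittingSubgroup N : Set N) :=
      mem_centralizer_iff.2 fun y hy => Subtype.ext (mem_center_iff.1 (hFc y hy) x).symm
    exact hFc _ (Fitting.centralizer_fitting_le h1)
  -- the data
  have : N.Normal := hNn
  refine ⟨G ⧸ N, inferInstance, inferInstance, ⟨?_⟩⟩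
  set π := QuotientGroup.mk' N with hπ
  have hsurj : Function.Surjective π := QuotientGroup.mk'_surjective N
  let V : Set (G ⧸ N) := {y | ∃ v ∈ S.V, ∃ p a : ℕ, p.Prime ∧ orderOf v = p ^ a ∧ π v = y}
  have h1V : (1 : G ⧸ N) ∈ V := by
    have h1 : (1 : G) ∈ S.V := by
      have e : ∀ j, itc (1 : G) 1 j = 1 := by
        intro j
        induction j with
        | zero => rfl
        | succ j ih => rw [itc, ih, commutatorElement_one_left]
      have := S.iter 1 1 k le_rfl
      rwa [e] at this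
    exact ⟨1, h1, 2, 0, Nat.prime_two, by rw [orderOf_one, pow_zero], map_one π⟩
  have hpel : ∀ (p : ℕ), p.Prime → ∀ v : G, ∀ q b : ℕ, q.Prime → orderOf v = q ^ b →
      (∃ a, orderOf (π v) = p ^ a) → π v = 1 ∨ ∃ a, orderOf v = p ^ a := by
    intro p hp v q b hq hvb ⟨a, ha⟩
    rcases Nat.eq_zero_or_pos a with h0 | h0
    · exact Or.inl (orderOf_eq_one_iff.1 (by rw [ha, h0, pow_zero]))
    · refine Or.inr ⟨b, ?_⟩
      have h2 : p ∣ q ^ b := (dvd_pow_self p h0.ne').trans (ha ▸ hvb ▸ orderOf_map_dvd π v)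
      rw [(Nat.prime_dvd_prime_iff_eq hp hq).1 (hp.dvd_of_dvd_pow h2)]
      exact hvb
  refine { V := V, solv := ?_, simple := ?_, nc := ?_, core := ?_, conj := ?_, comm := ?_, iter := ?_ }
  · intro H hH
    have hne : H.comap π ≠ ⊤ := fun h => hH (by
      rw [← map_comap_eq_self_of_surjective hsurj H, h, map_top_of_surjective π hsurj])
    have := (ih _ hne).1
    exact Group.isSolvable_of_surjective (f := π.subgroupComap H)
      (MonoidHom.subgroupComap_surjective_of_surjective π H hsurj)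
  · have : Nontrivial (G ⧸ N) := QuotientGroup.nontrivial_iff.2 hNt
    refine ⟨fun H hH => ?_⟩
    by_cases hle : H.comap π ≤ N
    · left
      rw [← map_comap_eq_self_of_surjective hsurj H, eq_bot_iff]
      rintro _ ⟨x, hx, rfl⟩
      exact mem_bot.2 ((QuotientGroup.eq_one_iff x).2 (hle hx))
    · right
      rw [← map_comap_eq_self_of_surjective hsurj H, hnt _ inferInstance hle,
        map_top_of_surjective π hsurj]
  · intro hc
    exact hns (hext N hNsol (Group.isSolvable_of_comm fun a b => hc.is_comm.comm a b))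
  · rintro H hH p hp y hy ⟨v, hv, q, b, hq, hvb, rfl⟩ hyo
    rcases hpel p hp v q b hq hvb hyo with h1 | hvo
    · rw [show (⟨π v, hy⟩ : H) = 1 from Subtype.ext h1]; exact one_mem _
    have := Fact.mk hp
    have hne : H.comap π ≠ ⊤ := fun h => hH (by
      rw [← map_comap_eq_self_of_surjective hsurj H, h, map_top_of_surjective π hsurj])
    have h2 := mem_pCore_sub S (ih _ hne).2 hp hv (show v ∈ H.comap π from hy) hvo
    exact PCore.map_pCore_le (π.subgroupComap H)
      (MonoidHom.subgroupComap_surjective_of_surjective π H hsurj) ⟨_, h2, rfl⟩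
  · rintro y ⟨v, hv, q, b, hq, hvb, rfl⟩ g
    obtain ⟨g, rfl⟩ := hsurj g
    exact ⟨g * v * g⁻¹, S.conj v hv g, q, b, hq, (MulEquiv.orderOf_eq (MulAut.conj g) v).trans hvb,
      by rw [map_mul, map_mul, map_inv]⟩
  · rintro p T hp hT y ⟨v, hv, q, b, hq, hvb, rfl⟩ hyT t ht
    have := Fact.mk hp
    obtain ⟨e, he⟩ := IsPGroup.iff_orderOf.1 hT ⟨π v, hyT⟩
    rw [Subgroup.orderOf_mk] at he
    rcases hpel p hp v q b hq hvb ⟨e, he⟩ with h1 | hvo
    · rw [h1, commutatorElement_one_left]; exact h1V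
    obtain ⟨T₀, hT₀, hmap, hmem, -⟩ := exists_central_lift N hNc hT
    obtain ⟨t₀, ht₀, rfl⟩ := (hmap.symm ▸ ht : t ∈ T₀.map π)
    have hv₀ : v ∈ T₀ := hmem v hyT hvo
    have hcT : ⁅v, t₀⁆ ∈ T₀ := by
      rw [commutatorElement_def]
      exact T₀.mul_mem (T₀.mul_mem (T₀.mul_mem hv₀ ht₀) (T₀.inv_mem hv₀)) (T₀.inv_mem ht₀)
    obtain ⟨c, hc⟩ := IsPGroup.iff_orderOf.1 hT₀ ⟨_, hcT⟩
    rw [Subgroup.orderOf_mk] at hc
    exact ⟨_, S.comm v hv t₀, p, c, hp, hc, map_commutatorElement π v t₀⟩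
  · intro p T hp hT a ha hac t ht j hj
    have := Fact.mk hp
    obtain ⟨T₀, hT₀, hmap, -, hnorm⟩ := exists_central_lift N hNc hT
    obtain ⟨a₀, rfl⟩ := hsurj a
    obtain ⟨a₁, -, ha₁, hac₁⟩ := exists_coprime_lift π hac
    obtain ⟨t₀, ht₀, rfl⟩ := (hmap.symm ▸ ht : t ∈ T₀.map π)
    have ha₁N : a₁ ∈ normalizer (T₀ : Set G) := hnorm a₁ (ha₁.symm ▸ ha)
    obtain ⟨c, hc⟩ := IsPGroup.iff_orderOf.1 hT₀ ⟨_, itc_mem ht₀ ha₁N j⟩
    rw [Subgroup.orderOf_mk] at hc
    exact ⟨_, S.iter t₀ a₁ j hj, p, c, hp, hc, by rw [itc_map, ha₁]⟩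

end CfsgLib.NilpLCS
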