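import Cfsg.Agent.Lib.Struct77.NilpLCS.Values
import Cfsg.Agent.Lib.Transfer.NormalComplement
import Cfsg.Agent.Lib.Involutions.BaerSuzuki
import Cfsg.Agent.Lib.PCore.Basic
import Cfsg.Agent.Lib.Solvable.Fitting

/-!
Values of prime power order lie in the cores; this makes the lower central term nilpotent.
-/

set_option autoImplicit false

namespace CfsgLib.NilpLCS

open Subgroup
open scoped commutatorElement

universe u

variable {G : Type u} [Group G] [Finite G]

instance pCoreNormalInst (p : ℕ) : (Cfsg.pCore p G).Normal := Fitting.pCore_normal p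

omit [Finite G] in
/-- A coprime element killed by iterated commutation centralises. -/
theorem commute_of_itc {p : ℕ} [hp : Fact p.Prime] {T : Subgroup G} (hT : IsPGroup p T) {a : G}
    (ha : a ∈ normalizer (T : Set G)) (hc : (orderOf a).Coprime p) :
    ∀ j : ℕ, ∀ t ∈ T, itc t a j = 1 → Commute t a := by
  intro j
  induction j with
  | zero => intro t _ h; rw [show t = 1 from h]; exact Commute.one_left a
  | succ j ih =>
    intro t ht h
    have h1 : Commute (itc t a j) a := commutatorElement_eq_one_iff_commute.1 h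
    cases j with
    | zero => exact h1
    | succ i =>
      refine ih t ht ?_
      set s := itc t a i with hs
      have hsT : s ∈ T := itc_mem ht ha i
      have hd : itc t a (i + 1) = ⁅s, a⁆ := rfl
      rw [hd] at h1 ⊢
      set d := ⁅s, a⁆ with hdd
      have hdT : d ∈ T := hd ▸ itc_mem ht ha (i + 1)
      have hda : a * d⁻¹ = d⁻¹ * a := (h1.inv_left).eq.symm
      have hpow : ∀ n : ℕ, a ^ n * s * (a ^ n)⁻¹ = d⁻¹ ^ n * s := by
        intro n
        induction n with
        | zero => simp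
        | succ n ihn =>
          have e : a * s * a⁻¹ = d⁻¹ * s := by rw [hdd, commutatorElement_def]; group
          calc a ^ (n + 1) * s * (a ^ (n + 1))⁻¹ = a * (a ^ n * s * (a ^ n)⁻¹) * a⁻¹ := by
                rw [pow_succ']; group
            _ = a * (d⁻¹ ^ n * s) * a⁻¹ := by rw [ihn]
            _ = (a * d⁻¹ ^ n * a⁻¹) * (a * s * a⁻¹) := by group
            _ = d⁻¹ ^ n * (d⁻¹ * s) := by
              rw [((show Commute a d⁻¹ from hda).pow_right n).eq, mul_inv_cancel_right, e]
            _ = _ := by rw [pow_succ]; group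
      have h2 := hpow (orderOf a)
      rw [pow_orderOf_eq_one, one_mul, inv_one, mul_one] at h2
      have h3 : d⁻¹ ^ orderOf a = 1 := mul_eq_right.1 h2.symm
      obtain ⟨m, hm⟩ := hT ⟨d, hdT⟩
      have h4 : d⁻¹ ^ p ^ m = 1 := by rw [inv_pow, show d ^ p ^ m = 1 by simpa using congrArg Subtype.val hm, inv_one]
      have h5 := pow_gcd_eq_one.2 ⟨h3, h4⟩
      rw [(hc.pow_right m).gcd_eq_one, pow_one, inv_eq_one] at h5
      exact h5

/-- Elements of `p`-power order lie in `O_p` when there are normal `q`-complements for the other primes. -/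
theorem mem_pCore_of_complements {p : ℕ} (hp : p.Prime)
    (h : ∀ (q : ℕ) [Fact q.Prime], q ≠ p → Cfsg.HasNormalPComplement q G)
    {x : G} (hx : ∃ a, orderOf x = p ^ a) : x ∈ Cfsg.pCore p G := by
  classical
  have := Fact.mk hp
  let K : Subgroup G := ⨅ q : {q // q ∈ (Nat.card G).primeFactors ∧ q ≠ p}, Cfsg.pResidual (q : ℕ) G
  have hKn : K.Normal := normal_iInf_normal fun q => Transfer.pResidual_normal
  have hKp : IsPGroup p K := by
    refine IsPGroup.of_card (n := (Nat.card K).primeFactorsList.length)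
      (Nat.eq_prime_pow_of_unique_prime_dvd Nat.card_pos.ne' fun {d} hd hdvd => ?_)
    by_contra hne
    have := Fact.mk hd
    have hmem : d ∈ (Nat.card G).primeFactors :=
      Nat.mem_primeFactors.2 ⟨hd, hdvd.trans (card_subgroup_dvd_card K), Nat.card_pos.ne'⟩
    exact Transfer.hasNormalPComplement_iff.1 (h d hne)
      (hdvd.trans (card_dvd_of_le (iInf_le _ (⟨d, hmem, hne⟩ : {q // q ∈ (Nat.card G).primeFactors ∧ q ≠ p}))))
  refine PCore.le_pCore hKn hKp (mem_iInf.2 fun q => ?_)
  obtain ⟨a, ha⟩ := hx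
  have hq : (q : ℕ).Prime := Nat.prime_of_mem_primeFactors q.2.1
  have := Fact.mk hq
  refine Transfer.mem_pResidual ?_
  rw [ha]
  exact Nat.Coprime.pow_left a ((Nat.coprime_primes hp hq).2 (Ne.symm q.2.2))

/-- Frobenius' criterion modulo `O_q`. -/
theorem complement_mod_core {q : ℕ} [hq : Fact q.Prime]
    (h : ∀ T : Subgroup G, IsPGroup q T → ∀ a ∈ normalizer (T : Set G), (orderOf a).Coprime q →
      ∀ t ∈ T, ∃ j, itc t a j ∈ Cfsg.pCore q G) :
    Cfsg.HasNormalPComplement q (G ⧸ Cfsg.pCore q G) := by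
  refine Transfer.hasNormalPComplement_of_frobeniusCond fun Q hQ g hg hc => ?_
  set π := QuotientGroup.mk' (Cfsg.pCore q G) with hπ
  obtain ⟨g₀, rfl⟩ := QuotientGroup.mk'_surjective _ g
  set T := Q.comap π with hT
  have hTp : IsPGroup q T := PCore.isPGroup_comap_mk' PCore.pCore_isPGroup hQ
  set o := orderOf g₀ with ho
  set A := q ^ o.factorization q with hA
  have ho0 : o ≠ 0 := (orderOf_pos g₀).ne'
  have hcA : A.Coprime (orderOf (π g₀)) := (Nat.Coprime.pow_left _ (Nat.coprime_comm.1 hc))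
  obtain ⟨m, hm⟩ := exists_pow_eq_self_of_coprime hcA
  set a := (g₀ ^ A) ^ m with ha
  have hπa : π a = π g₀ := by rw [ha, map_pow, map_pow, hm]
  have hac : (orderOf a).Coprime q := by
    refine Nat.Coprime.coprime_dvd_left (orderOf_dvd_of_pow_eq_one (n := o / A) ?_)
      (Nat.coprime_comm.1 (Nat.coprime_ordCompl hq.out ho0))
    rw [ha, ← pow_mul, ← pow_mul, mul_comm m (o / A), ← mul_assoc, pow_mul,
      Nat.mul_div_cancel' (Nat.ordProj_dvd o q), ho, pow_orderOf_eq_one, one_pow]
  have haN : a ∈ normalizer (T : Set G) := by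
    rw [mem_normalizer_iff]
    intro x
    rw [hT, mem_comap, mem_comap, map_mul, map_mul, map_inv, hπa]
    exact mem_normalizer_iff.1 hg (π x)
  rw [mem_centralizer_iff]
  intro y hy
  obtain ⟨t, rfl⟩ := QuotientGroup.mk'_surjective _ y
  obtain ⟨j, hj⟩ := h T hTp a haN hac t hy
  have h1 : itc (π t) (π a) j = 1 := by
    rw [← itc_map]
    exact (QuotientGroup.eq_one_iff _).2 hj
  rw [hπa] at h1
  exact (commute_of_itc hQ hg hc j _ hy h1).eq

variable {k : ℕ}

/-- Values of prime power order lie in the cores. -/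
def CoreProp (S : Sys G k) : Prop :=
  ∀ p : ℕ, p.Prime → ∀ v ∈ S.V, (∃ a, orderOf v = p ^ a) → v ∈ Cfsg.pCore p G

/-- A value centralises the normal subgroups of coprime order. -/
theorem commute_normal (S : Sys G k) {v : G} (hv : v ∈ S.V) {N : Subgroup G} (hN : N.Normal)
    (hc : (orderOf v).Coprime (Nat.card N)) : ∀ n ∈ N, Commute v n := by
  intro n hn
  have h1 : ⁅v, n⁆ ∈ N := by
    rw [commutatorElement_def]
    exact N.mul_mem (hN.conj_mem n hn v) (N.inv_mem hn)
  exact commutatorElement_eq_one_iff_commute.1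
    (S.key v hv n (hc.coprime_dvd_right (N.orderOf_dvd_natCard h1)))

/-- Values in proper subgroups. -/
theorem mem_pCore_sub (S : Sys G k) {H : Subgroup G} (hH : CoreProp (S.restrict H)) {p : ℕ}
    (hp : p.Prime) {v : G} (hv : v ∈ S.V) (hvH : v ∈ H) (hvo : ∃ a, orderOf v = p ^ a) :
    (⟨v, hvH⟩ : H) ∈ Cfsg.pCore p H :=
  hH p hp ⟨v, hvH⟩ hv (by rwa [Subgroup.orderOf_mk])

/-- Values of `p`-power order in a solvable group. -/
theorem coreProp_solvable (S : Sys G k) [Group.IsSolvable G]
    (ih : ∀ H : Subgroup G, H ≠ ⊤ → CoreProp (S.restrict H)) : CoreProp S := by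
  intro p hp v hv hvo
  have := Fact.mk hp
  by_cases hpair : ∀ g : G, closure ({v, g * v * g⁻¹} : Set G) ≠ ⊤
  · obtain ⟨N, hN, hNp, hvN⟩ := CfsgLib.Involutions.exists_normal_isPGroup_of_mem (p := p) (x := v)
      fun g => by
        set H := closure ({v, g * v * g⁻¹} : Set G) with hH
        have hvH : v ∈ H := subset_closure (Or.inl rfl)
        have hwH : g * v * g⁻¹ ∈ H := subset_closure (Or.inr rfl)
        have h1 := mem_pCore_sub S (ih H (hpair g)) hp hv hvH hvo
        have h2 := mem_pCore_sub S (ih H (hpair g)) hp (S.conj v hv g) hwH (by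
          obtain ⟨a, ha⟩ := hvo
          exact ⟨a, (MulEquiv.orderOf_eq (MulAut.conj g) v).trans ha⟩)
        have htop : Cfsg.pCore p H = ⊤ := by
          rw [eq_top_iff]
          intro x _
          have hle : H ≤ (Cfsg.pCore p H).map H.subtype := by
            rw [hH, closure_le]
            rintro y (rfl | rfl)
            · exact ⟨_, h1, rfl⟩
            · exact ⟨_, h2, rfl⟩
          obtain ⟨y, hy, hyx⟩ := hle x.2
          rwa [← Subtype.ext hyx]
        exact ((PCore.pCore_isPGroup (p := p) (G := H)).of_equiv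
          ((MulEquiv.subgroupCongr htop).trans topEquiv))
    exact PCore.le_pCore hN hNp hvN
  push Not at hpair
  obtain ⟨g, hgen⟩ := hpair
  obtain ⟨a, hva⟩ := hvo
  have hwo : orderOf (g * v * g⁻¹) = p ^ a := (MulEquiv.orderOf_eq (MulAut.conj g) v).trans hva
  rcases subsingleton_or_nontrivial G with hs | hs
  · rw [hs.elim v 1]; exact one_mem _
  have hLlt : commutator G < ⊤ := Group.IsSolvable.commutator_lt_top_of_nontrivial G
  have hquot : ∀ x : G, ∃ i, x ^ p ^ i ∈ commutator G := by
    intro x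
    have hx : x ∈ closure ({v, g * v * g⁻¹} : Set G) := hgen ▸ mem_top x
    induction hx using closure_induction with
    | mem y hy =>
      refine ⟨a, ?_⟩
      rcases hy with rfl | rfl
      · rw [← hva, pow_orderOf_eq_one]; exact one_mem _
      · rw [← hwo, pow_orderOf_eq_one]; exact one_mem _
    | one => exact ⟨0, by simp⟩
    | mul y z _ _ hy hz =>
      obtain ⟨i, hi⟩ := hy
      obtain ⟨j, hj⟩ := hz
      refine ⟨i + j, ?_⟩
      have hc : Commute (Abelianization.of y) (Abelianization.of z) := Commute.all _ _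
      rw [← Abelianization.ker_of, MonoidHom.mem_ker, map_pow, map_mul, hc.mul_pow, ← map_pow,
        ← map_pow]
      rw [← Abelianization.ker_of, MonoidHom.mem_ker] at hi hj
      rw [pow_add, pow_mul, map_pow, hi, one_pow, one_mul, mul_comm, pow_mul, map_pow, hj, one_pow]
    | inv y _ hy =>
      obtain ⟨i, hi⟩ := hy
      exact ⟨i, by rw [inv_pow]; exact inv_mem hi⟩
  refine mem_pCore_of_complements hp (fun q hq hqp => ?_) ⟨a, hva⟩
  refine Transfer.hasNormalPComplement_of_frobeniusCond fun T hT b hb hbc => ?_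
  rw [mem_centralizer_iff]
  intro t ht
  refine (commute_of_itc hT hb hbc (k + 1) t ht ?_).eq
  set u := itc t b k with hu
  have huT : u ∈ T := itc_mem ht hb k
  obtain ⟨n, hn⟩ := IsPGroup.iff_orderOf.1 hT ⟨u, huT⟩
  rw [Subgroup.orderOf_mk] at hn
  have huL : u ∈ commutator G := by
    obtain ⟨i, hi⟩ := hquot u
    obtain ⟨m, hm⟩ := exists_pow_eq_self_of_coprime (x := u) (n := p ^ i)
      (by rw [hn]; exact Nat.Coprime.pow i n ((Nat.coprime_primes hp hq.out).2 (Ne.symm hqp)))
    rw [← hm]
    exact pow_mem hi m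
  have hu1 := mem_pCore_sub S (ih (commutator G) hLlt.ne) hq.out (S.iter t b k le_rfl) huL ⟨n, hn⟩
  have huG : u ∈ Cfsg.pCore q G := by
    have h3 : u ∈ (Cfsg.pCore q (commutator G)).map (commutator G).subtype := ⟨_, hu1, rfl⟩
    rw [PCore.map_pCore_subtype_of_normal] at h3
    exact h3.2
  have hcen : ∀ w ∈ S.V, orderOf w = p ^ a → Commute w u := fun w hw hwa => by
    obtain ⟨i, hi⟩ := (PCore.pCore_isPGroup (p := q) (G := G)).exists_card_eq
    exact commute_normal S hw inferInstance
      (by rw [hwa, hi]; exact Nat.Coprime.pow a i ((Nat.coprime_primes hp hq.out).2 (Ne.symm hqp))) u huG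
  have hub : Commute u b := by
    have hle : closure ({v, g * v * g⁻¹} : Set G) ≤ centralizer ({u} : Set G) := by
      rw [closure_le]
      rintro y (rfl | rfl)
      · exact mem_centralizer_singleton_iff.2 (hcen _ hv hva).eq
      · exact mem_centralizer_singleton_iff.2 (hcen _ (S.conj v hv g) hwo).eq
    exact (mem_centralizer_singleton_iff.1 (hle (hgen ▸ mem_top b))).symm
  exact commutatorElement_eq_one_iff_commute.2 hub

/-- Normal `q`-complements modulo `O_q`. -/
theorem complement_of_coreProp (S : Sys G k) (hS : CoreProp S) (q : ℕ) [hq : Fact q.Prime] :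
    Cfsg.HasNormalPComplement q (G ⧸ Cfsg.pCore q G) := by
  refine complement_mod_core fun T hT a ha _ t ht => ⟨k, hS q hq.out _ (S.iter t a k le_rfl) ?_⟩
  obtain ⟨n, hn⟩ := IsPGroup.iff_orderOf.1 hT ⟨_, itc_mem ht ha k⟩
  exact ⟨n, by rwa [Subgroup.orderOf_mk] at hn⟩

/-- Lifting values along surjections. -/
theorem IsVal.exists_lift {A B : Type*} [Group A] [Group B] (f : A →* B) (hf : Function.Surjective f) :
    ∀ (k : ℕ) (y : B), IsVal k y → ∃ x, IsVal k x ∧ f x = y := by
  intro k
  induction k with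
  | zero =>
    intro y _
    obtain ⟨x, hx⟩ := hf y
    exact ⟨x, trivial, hx⟩
  | succ k ih =>
    rintro y ⟨z, g, hz, rfl⟩
    obtain ⟨x, hx, rfl⟩ := ih z hz
    obtain ⟨h, rfl⟩ := hf g
    exact ⟨⁅x, h⁆, ⟨x, h, hx, rfl⟩, map_commutatorElement f x h⟩

omit [Finite G] in
theorem pCore_le_fitting' [Finite G] {q : ℕ} (hq : q.Prime) :
    Cfsg.pCore q G ≤ Cfsg.fittingSubgroup G := Fitting.pCore_le_fitting hq

/-- Complements modulo the Fitting subgroup. -/
theorem complement_mod_fitting [(Cfsg.fittingSubgroup G).Normal] (q : ℕ) [hq : Fact q.Prime]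
    (h : Cfsg.HasNormalPComplement q (G ⧸ Cfsg.pCore q G)) :
    Cfsg.HasNormalPComplement q (G ⧸ Cfsg.fittingSubgroup G) := by
  refine Transfer.hasNormalPComplement_of_surjective
    (QuotientGroup.map (Cfsg.pCore q G) (Cfsg.fittingSubgroup G) (MonoidHom.id G)
      (pCore_le_fitting' hq.out)) ?_ h
  intro y
  obtain ⟨g, rfl⟩ := QuotientGroup.mk'_surjective _ y
  exact ⟨QuotientGroup.mk' _ g, rfl⟩

/-- The lower central term lies in the Fitting subgroup. -/
theorem lcs_le_fitting (S : Sys G k)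
    (hSV : ∀ x : G, IsVal k x → x ∈ S.V) (hS : CoreProp S) :
    (⊤ : Subgroup G).lowerCentralSeries k ≤ Cfsg.fittingSubgroup G := by
  classical
  have hFn : (Cfsg.fittingSubgroup G).Normal := Fitting.fitting_normal
  refine lcs_le_of_values k _ hFn fun x hx => ?_
  rw [← QuotientGroup.eq_one_iff]
  by_contra hne
  obtain ⟨q, hq, hqd⟩ := Nat.exists_prime_and_dvd
    (fun h0 => hne (orderOf_eq_one_iff.1 h0) :
      orderOf (x : G ⧸ Cfsg.fittingSubgroup G) ≠ 1)
  have := Fact.mk hq
  have hc := complement_of_coreProp S hS q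
  set π := QuotientGroup.mk' (Cfsg.pCore q G) with hπ
  set R := Cfsg.pResidual q (G ⧸ Cfsg.pCore q G) with hR
  have hRn : R.Normal := Transfer.pResidual_normal
  have hRc : ¬ q ∣ Nat.card R := Transfer.hasNormalPComplement_iff.1 hc
  -- the image in the largest `q`-quotient
  have hxR : π x ∈ R := by
    let φ : G →* (G ⧸ Cfsg.pCore q G) ⧸ R := (QuotientGroup.mk' R).comp π
    have hφ : Function.Surjective φ :=
      (QuotientGroup.mk'_surjective R).comp (QuotientGroup.mk'_surjective _)
    have hqg : IsPGroup q ((G ⧸ Cfsg.pCore q G) ⧸ R) :=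
      Transfer.isPGroup_quotient_of_pResidual_le R le_rfl
    let Q : Sylow q G := default
    have hQtop : (Q : Subgroup G).map φ = ⊤ := by
      have h1 := (Q.mapSurjective hφ).is_maximal' (hqg.to_subgroup ⊤) le_top
      exact h1.symm
    have hsurjQ : Function.Surjective (φ.comp (Q : Subgroup G).subtype) := fun y => by
      obtain ⟨g, hg, rfl⟩ := (hQtop.symm ▸ mem_top y : y ∈ (Q : Subgroup G).map φ)
      exact ⟨⟨g, hg⟩, rfl⟩
    obtain ⟨⟨w, hwQ⟩, hwval, hwx⟩ := IsVal.exists_lift _ hsurjQ k (φ x) (hx.map φ k x)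
    obtain ⟨n, hn⟩ := IsPGroup.iff_orderOf.1 Q.2 ⟨w, hwQ⟩
    rw [Subgroup.orderOf_mk] at hn
    have hwc : w ∈ Cfsg.pCore q G :=
      hS q hq w (hSV w (IsVal.map (Q : Subgroup G).subtype k _ hwval)) ⟨n, hn⟩
    have h2 : φ x = 1 := by
      rw [← hwx]
      show QuotientGroup.mk' R (π w) = 1
      rw [show π w = 1 from (QuotientGroup.eq_one_iff w).2 hwc, map_one]
    exact (QuotientGroup.eq_one_iff _).1 h2
  let ψ : G ⧸ Cfsg.pCore q G →* G ⧸ Cfsg.fittingSubgroup G :=
    QuotientGroup.map (Cfsg.pCore q G) (Cfsg.fittingSubgroup G) (MonoidHom.id G) (pCore_le_fitting' hq)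
  exact hRc (hqd.trans ((orderOf_map_dvd ψ (π x)).trans (R.orderOf_dvd_natCard hxR)))

end CfsgLib.NilpLCS
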