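import Mathlib
import Cfsg.Prelude.Def_Transfer
import Cfsg.Agent.Lib.Struct77.Engel

/-!
Values of left-normed commutators of length `k + 1`, and the hypothesis on coprime values.
-/

set_option autoImplicit false

namespace CfsgLib.NilpLCS

open Subgroup
open scoped commutatorElement

universe u

variable {G : Type u} [Group G]

/-- Values of left-normed commutators of length `k + 1`. -/
def IsVal : ℕ → G → Prop
  | 0, _ => True
  | k + 1, x => ∃ y g, IsVal k y ∧ x = ⁅y, g⁆

theorem isVal_of_succ : ∀ (k : ℕ) (x : G), IsVal (k + 1) x → IsVal k x := by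
  intro k
  induction k with
  | zero => intro x _; trivial
  | succ k ih =>
    rintro x ⟨y, g, hy, rfl⟩
    exact ⟨y, g, ih y hy, rfl⟩

theorem IsVal.commutator {k : ℕ} {x : G} (h : IsVal k x) (g : G) : IsVal k ⁅x, g⁆ :=
  isVal_of_succ k _ ⟨x, g, h, rfl⟩

theorem IsVal.map {H : Type*} [Group H] (f : G →* H) : ∀ (k : ℕ) (x : G), IsVal k x → IsVal k (f x) := by
  intro k
  induction k with
  | zero => intro x _; trivial
  | succ k ih =>
    rintro x ⟨y, g, hy, rfl⟩
    exact ⟨f y, f g, ih y hy, map_commutatorElement f y g⟩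

theorem IsVal.conj {k : ℕ} {x : G} (h : IsVal k x) (g : G) : IsVal k (g * x * g⁻¹) :=
  IsVal.map (MulAut.conj g).toMonoidHom k x h

theorem isVal_iff : ∀ (k : ℕ) (x : G),
    (∃ (a : G) (f : Fin k → G), x = (List.ofFn f).foldl (fun a b => a * b * a⁻¹ * b⁻¹) a) ↔ IsVal k x := by
  intro k
  induction k with
  | zero => exact fun x => ⟨fun _ => trivial, fun _ => ⟨x, Fin.elim0, by simp⟩⟩
  | succ k ih =>
    intro x
    constructor
    · rintro ⟨a, f, rfl⟩
      refine ⟨_, f (Fin.last k), (ih _).1 ⟨a, fun i => f i.castSucc, rfl⟩, ?_⟩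
      rw [List.ofFn_succ', List.concat_eq_append, List.foldl_append, List.foldl_cons, List.foldl_nil,
        commutatorElement_def]
    · rintro ⟨y, g, hy, rfl⟩
      obtain ⟨a, f, rfl⟩ := (ih y).2 hy
      refine ⟨a, Fin.snoc f g, ?_⟩
      rw [List.ofFn_succ', List.concat_eq_append, List.foldl_append, List.foldl_cons, List.foldl_nil,
        commutatorElement_def]
      simp only [Fin.snoc_castSucc, Fin.snoc_last]

theorem exists_tail_iff (k : ℕ) (x : G) :
    (∃ f : Fin (k + 1) → G, x = ((List.ofFn f).tail).foldl (fun a b => a * b * a⁻¹ * b⁻¹) (f 0)) ↔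
      IsVal k x := by
  rw [← isVal_iff]
  constructor
  · rintro ⟨f, rfl⟩
    exact ⟨f 0, fun i => f i.succ, by rw [List.ofFn_succ, List.tail_cons]⟩
  · rintro ⟨a, f, rfl⟩
    refine ⟨Fin.cons a f, ?_⟩
    rw [List.ofFn_succ, List.tail_cons]
    simp only [Fin.cons_zero, Fin.cons_succ]

theorem IsVal.mem_lcs : ∀ (k : ℕ) (x : G), IsVal k x → x ∈ (⊤ : Subgroup G).lowerCentralSeries k := by
  intro k
  induction k with
  | zero => intro x _; exact mem_top x
  | succ k ih =>
    rintro x ⟨y, g, hy, rfl⟩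
    exact commutator_mem_commutator (ih y hy) (mem_top g)

theorem lcs_le_of_values : ∀ (k : ℕ) (N : Subgroup G), N.Normal → (∀ x, IsVal k x → x ∈ N) →
    (⊤ : Subgroup G).lowerCentralSeries k ≤ N := by
  intro k
  induction k with
  | zero => intro N _ h x _; exact h x trivial
  | succ k ih =>
    intro N hN h
    let M : Subgroup G := (center (G ⧸ N)).comap (QuotientGroup.mk' N)
    have hM : M.Normal := inferInstance
    have hle : (⊤ : Subgroup G).lowerCentralSeries k ≤ M := ih M hM fun y hy => by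
      rw [mem_comap, mem_center_iff]
      intro q
      obtain ⟨g, rfl⟩ := QuotientGroup.mk'_surjective N q
      have h1 : QuotientGroup.mk' N ⁅y, g⁆ = 1 := (QuotientGroup.eq_one_iff _).2 (h _ ⟨y, g, hy, rfl⟩)
      rw [map_commutatorElement, commutatorElement_eq_one_iff_mul_comm] at h1
      exact h1.symm
    show ⁅(⊤ : Subgroup G).lowerCentralSeries k, ⊤⁆ ≤ N
    rw [commutator_le]
    intro y hy g _
    have h1 := mem_center_iff.1 (hle hy) (QuotientGroup.mk' N g)
    have h2 : QuotientGroup.mk' N ⁅y, g⁆ = 1 := by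
      rw [map_commutatorElement, commutatorElement_eq_one_iff_mul_comm]; exact h1.symm
    exact (QuotientGroup.eq_one_iff _).1 h2

/-- Iterated commutators with one element. -/
def itc (t a : G) : ℕ → G
  | 0 => t
  | j + 1 => ⁅itc t a j, a⁆

theorem itc_map {H : Type*} [Group H] (f : G →* H) (t a : G) :
    ∀ j, f (itc t a j) = itc (f t) (f a) j := by
  intro j
  induction j with
  | zero => rfl
  | succ j ih => rw [itc, itc, map_commutatorElement, ih]

theorem itc_mem {T : Subgroup G} {t a : G} (ht : t ∈ T) (ha : a ∈ normalizer (T : Set G)) :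
    ∀ j, itc t a j ∈ T := by
  intro j
  induction j with
  | zero => exact ht
  | succ j ih =>
    rw [itc, commutatorElement_def]
    have h2 : a * (itc t a j)⁻¹ * a⁻¹ ∈ T := (mem_normalizer_iff.1 ha _).1 (T.inv_mem ih)
    simpa [mul_assoc] using T.mul_mem ih h2

theorem isVal_itc (t a : G) : ∀ j, IsVal j (itc t a j) := by
  intro j
  induction j with
  | zero => trivial
  | succ j ih => exact ⟨_, a, ih, rfl⟩

/-- The abstract form of the hypothesis. -/
structure Sys (G : Type u) [Group G] (k : ℕ) where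
  V : Set G
  conj : ∀ v ∈ V, ∀ g : G, g * v * g⁻¹ ∈ V
  comm : ∀ v ∈ V, ∀ g : G, ⁅v, g⁆ ∈ V
  iter : ∀ t a : G, ∀ j, k ≤ j → itc t a j ∈ V
  key : ∀ v ∈ V, ∀ g : G, (orderOf v).Coprime (orderOf ⁅v, g⁆) → ⁅v, g⁆ = 1
  lcs : ∀ N : Subgroup G, N.Normal → (∀ v ∈ V, v ∈ N) → (⊤ : Subgroup G).lowerCentralSeries k ≤ N
  val : ∀ x : G, IsVal k x → x ∈ V

/-- Restriction to a subgroup. -/
def Sys.restrict {k : ℕ} (S : Sys G k) (H : Subgroup G) : Sys H k where
  V := {v | (v : G) ∈ S.V}
  conj v hv g := S.conj _ hv g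
  comm v hv g := by
    show H.subtype ⁅v, g⁆ ∈ S.V
    rw [map_commutatorElement]
    exact S.comm _ hv _
  iter t a j hj := by
    have := S.iter (t : G) a j hj
    rw [show (t : G) = H.subtype t from rfl, show (a : G) = H.subtype a from rfl, ← itc_map] at this
    exact this
  key v hv g hc := by
    apply H.subtype_injective
    rw [map_one, map_commutatorElement]
    refine S.key _ hv g ?_
    rw [← orderOf_injective H.subtype H.subtype_injective v,
      ← orderOf_injective H.subtype H.subtype_injective ⁅v, g⁆, map_commutatorElement] at hc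
    exact hc
  lcs N hN hVN := lcs_le_of_values k N hN fun x hx => hVN x (S.val _ (IsVal.map H.subtype k x hx))
  val x hx := S.val _ (IsVal.map H.subtype k x hx)

theorem isVal_ge : ∀ (j k : ℕ) (x : G), k ≤ j → IsVal j x → IsVal k x := by
  intro j
  induction j with
  | zero => intro k x hk h; obtain rfl : k = 0 := Nat.le_zero.1 hk; exact h
  | succ j ih =>
    intro k x hk h
    rcases Nat.lt_or_ge k (j + 1) with h' | h'
    · exact ih k x (by omega) (isVal_of_succ j x h)
    · obtain rfl : k = j + 1 := le_antisymm hk h'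
      exact h

/-- The system of values under the hypothesis on products. -/
def sysOfCond (k : ℕ) [Finite G]
    (h : ∀ x y : G, IsVal k x → IsVal k y → (orderOf x).Coprime (orderOf y) →
      (∀ r : ℕ, r.Prime → r ∣ orderOf x * orderOf y → r ∣ orderOf (x * y)) ∨
        orderOf x * orderOf y ≤ orderOf (x * y)) : Sys G k where
  V := {x | IsVal k x}
  conj v hv g := hv.conj g
  comm v hv g := hv.commutator g
  iter t a j hj := isVal_ge j k _ hj (isVal_itc t a j)
  key v hv g hc := by
    have hv' : IsVal k (g * v * g⁻¹) := hv.conj g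
    have ho : orderOf (g * v * g⁻¹) = orderOf v := MulEquiv.orderOf_eq (MulAut.conj g) v
    have e : ⁅v, g⁆ * (g * v * g⁻¹) = v := by rw [commutatorElement_def]; group
    rcases h _ _ (hv.commutator g) hv' (by rw [ho]; exact hc.symm) with h1 | h1
    · rw [e, ho] at h1
      by_contra hne
      obtain ⟨r, hr, hrd⟩ := Nat.exists_prime_and_dvd (fun h0 => hne (orderOf_eq_one_iff.1 h0))
      exact hr.not_dvd_one (hc ▸ Nat.dvd_gcd (h1 r hr (dvd_mul_of_dvd_left hrd _)) hrd)
    · rw [e, ho] at h1
      have hp := orderOf_pos v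
      have hp' := orderOf_pos ⁅v, g⁆
      refine orderOf_eq_one_iff.1 ?_
      nlinarith
  lcs N hN hVN := lcs_le_of_values k N hN hVN
  val x hx := hx

/-- Nilpotency gives the hypothesis. -/
theorem cond_of_nilpotent [Finite G] (k : ℕ)
    (hnil : Group.IsNilpotent ↥((⊤ : Subgroup G).lowerCentralSeries k)) {x y : G} (hx : IsVal k x)
    (hy : IsVal k y) (hc : (orderOf x).Coprime (orderOf y)) :
    ∀ r : ℕ, r.Prime → r ∣ orderOf x * orderOf y → r ∣ orderOf (x * y) := by
  intro r _ hr
  have := hnil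
  have hcomm : Commute x y :=
    congrArg Subtype.val (CfsgLib.Engel.commute_of_coprime_nilpotent
      (a := (⟨x, hx.mem_lcs k x⟩ : (⊤ : Subgroup G).lowerCentralSeries k))
      (b := ⟨y, hy.mem_lcs k y⟩) (by rw [orderOf_mk, orderOf_mk]; exact hc)).eq
  rwa [hcomm.orderOf_mul_eq_mul_orderOf_of_coprime hc]

end CfsgLib.NilpLCS
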